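import Cfsg.Agent.Lib.Helper17.E8I.DefsE

/-! # S2176 farm E8I (helper17), piece [M3]: from M1 and M2 as hypotheses -/

set_option autoImplicit false

namespace Cfsg.Agent.Lib.Helper17.E8I

open Cfsg.Lie Cfsg.Agent.Lib.Helper18 Cfsg.Agent.Lib.Helper17 Cfsg.Agent.Lib.Helper36
  Cfsg.Agent.Lib.Helper6 Matrix

variable {F : Type*} [Field F] (hB : Base chevE8 F)

/-- the statement of [M1] -/
def M1P : Prop := ∀ {u : GL chevE8.Idx F} (_ : u ∈ chevE8.posUnipotent F) (c : ℕ → F),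
    ∃ c' : ℕ → F, u * CG.lp hB S17 c * u⁻¹ = CG.lp hB S17 c' ∧
      ∀ h : ℤ, (∀ s ∈ S17, ht8 s < h → c s = 0) → ∀ s ∈ S17, ht8 s ≤ h → c' s = c s

/-- the statement of [M2] -/
def M2P : Prop := ∀ {n : GL chevE8.Idx F} {π : ℕ → ℕ} (_ : CG.GAct hB n π) {c c' : ℕ → F}
    (_ : n * CG.lp hB S17 c * n⁻¹ = CG.lp hB S17 c'),
    ∀ s' ∈ S17, c' s' ≠ 0 → ∃ s ∈ S17, c s ≠ 0 ∧ π s = s'

theorem M3_hD : chevE8 ∈ [chevG2, chevB2, chevD4, chevF4, chevE6, chevE7, chevE8] := by simp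

theorem M3_key (h1 : M1P hB) (h2 : M2P hB) {h : GL chevE8.Idx F} (hh : h ∈ chevE8.group F)
    {c c' : ℕ → F} (e : h * CG.lp hB S17 c * h⁻¹ = CG.lp hB S17 c') (H H' : ℤ)
    (hc : ∀ s ∈ S17, ht8 s < H → c s = 0) (hc' : ∀ s ∈ S17, ht8 s < H' → c' s = 0) :
    ∃ π : ℕ → ℕ,
      (∀ a b, a < chevE8.nroots → b < chevE8.nroots →
        chevE8.pairing (π a) (π b) = chevE8.pairing a b) ∧
      ∀ s' ∈ S17, ht8 s' = H' → c' s' ≠ 0 → ∃ s ∈ S17, H ≤ ht8 s ∧ π s = s' := by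
  have hD := M3_hD
  have hT := tabs2_of_mem hD
  have hTt := hT.tab
  let X := bnData_of_mem F hD
  obtain ⟨b, hb, n, hn, u, hu, rfl⟩ := X.bruhat_normal_exists hh
  obtain ⟨u₁, hu₁, h₁, hh₁, rfl⟩ := hB.mem_B_iff.mp hb
  have hu' := Um_le_U n hu
  have hm : h₁ * n ∈ chevE8.monomialSubgroup F := mul_mem (Base.H_le_N hh₁) hn
  obtain ⟨d, ed, hd⟩ := h1 hu' c
  obtain ⟨d', ed', hd'⟩ := h1 (inv_mem hu₁) c'
  have hmain : (h₁ * n) * CG.lp hB S17 d * (h₁ * n)⁻¹ = CG.lp hB S17 d' := by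
    rw [← ed, ← ed', ← e]
    group
  let w : ↥X.P.N := ⟨⟨h₁ * n, hB.N_le_group hTt hm⟩, (X.mem_N_iff _).2 hm⟩
  obtain ⟨π, -, hAct, -, hpr, -, -⟩ := CG.exists_act X w
  refine ⟨π, hpr, ?_⟩
  intro s' hs' hH' h0
  have e1 : d' s' = c' s' := hd' H' hc' s' hs' hH'.le
  obtain ⟨s, hs, hs0, hs1⟩ := h2 hAct hmain s' hs' (by rw [e1]; exact h0)
  refine ⟨s, hs, ?_, hs1⟩
  by_contra hlt
  rw [not_le] at hlt
  exact hs0 (by rw [hd H hc s hs hlt.le]; exact hc s hs hlt)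

theorem M3_comm {r s : ℕ} (hr : r < chevE8.nroots) (hs : s < chevE8.nroots)
    (h : s ≠ r ∧ s ≠ chevE8.neg r ∧ chevE8.commTerms r s = []) (t u : F) :
    hB.xg r t * hB.xg s u = hB.xg s u * hB.xg r t :=
  CG.comm_dvd hB (m := 0) (by simp) hr hs (Or.inr ⟨h.1, h.2.1, by rw [h.2.2]; simp⟩) t u

/-- coefficient functions of the representatives -/
def M3c1 : ℕ → F := fun s => if s = 239 then 1 else 0
def M3c2 : ℕ → F := fun s => if s = 232 ∨ s = 233 then 1 else 0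
def M3c3 : ℕ → F := fun s => if s = 218 ∨ s = 222 ∨ s = 228 then 1 else 0
def M3c4 : ℕ → F := fun s => if s = 213 ∨ s = 216 ∨ s = 220 ∨ s = 226 then 1 else 0

theorem M3_z1 : z1 hB = CG.lp hB S17 M3c1 := by
  simp [z1, S17, M3c1]

theorem M3_z2 : z2 hB = CG.lp hB S17 M3c2 := by
  simp [z2, S17, M3c2]

theorem M3_z3 : z3 hB = CG.lp hB S17 M3c3 := by
  have a1 : hB.xg 228 (1:F) * hB.xg 222 1 = hB.xg 222 1 * hB.xg 228 1 :=
    M3_comm hB (by decide +kernel) (by decide +kernel) (by decide +kernel) 1 1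
  have a2 : hB.xg 228 (1:F) * hB.xg 218 1 = hB.xg 218 1 * hB.xg 228 1 :=
    M3_comm hB (by decide +kernel) (by decide +kernel) (by decide +kernel) 1 1
  have a3 : hB.xg 222 (1:F) * hB.xg 218 1 = hB.xg 218 1 * hB.xg 222 1 :=
    M3_comm hB (by decide +kernel) (by decide +kernel) (by decide +kernel) 1 1
  have : z3 hB = hB.xg 218 1 * (hB.xg 222 1 * hB.xg 228 1) := by
    unfold z3
    rw [a1, mul_assoc, a2, ← mul_assoc, a3, mul_assoc]
  rw [this]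
  simp [S17, M3c3]

theorem M3_z4 : z4 hB = CG.lp hB S17 M3c4 := by
  have a1 : hB.xg 226 (1:F) * hB.xg 220 1 = hB.xg 220 1 * hB.xg 226 1 :=
    M3_comm hB (by decide +kernel) (by decide +kernel) (by decide +kernel) 1 1
  have a2 : hB.xg 226 (1:F) * hB.xg 213 1 = hB.xg 213 1 * hB.xg 226 1 :=
    M3_comm hB (by decide +kernel) (by decide +kernel) (by decide +kernel) 1 1
  have a3 : hB.xg 226 (1:F) * hB.xg 216 1 = hB.xg 216 1 * hB.xg 226 1 :=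
    M3_comm hB (by decide +kernel) (by decide +kernel) (by decide +kernel) 1 1
  have a4 : hB.xg 220 (1:F) * hB.xg 213 1 = hB.xg 213 1 * hB.xg 220 1 :=
    M3_comm hB (by decide +kernel) (by decide +kernel) (by decide +kernel) 1 1
  have a5 : hB.xg 220 (1:F) * hB.xg 216 1 = hB.xg 216 1 * hB.xg 220 1 :=
    M3_comm hB (by decide +kernel) (by decide +kernel) (by decide +kernel) 1 1
  have : z4 hB = hB.xg 213 1 * (hB.xg 216 1 * (hB.xg 220 1 * hB.xg 226 1)) := by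
    unfold z4
    calc hB.xg 226 (1:F) * hB.xg 220 1 * hB.xg 213 1 * hB.xg 216 1
        = hB.xg 220 1 * (hB.xg 226 1 * hB.xg 213 1) * hB.xg 216 1 := by rw [a1]; group
      _ = (hB.xg 220 1 * hB.xg 213 1) * (hB.xg 226 1 * hB.xg 216 1) := by rw [a2]; group
      _ = hB.xg 213 1 * (hB.xg 220 1 * hB.xg 216 1) * hB.xg 226 1 := by rw [a4, a3]; group
      _ = _ := by rw [a5]; group
  rw [this]
  simp [S17, M3c4]

/-- heights of the roots of `S17` -/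
theorem M3_ht : S17.map ht8 = [17, 17, 18, 19, 17, 18, 19, 20, 21, 22, 17, 18, 19, 20, 21, 22, 23, 23,
    24, 25, 26, 27, 28, 29] := by decide +kernel

theorem M3_T1 : ∀ a ∈ S17, 29 ≤ ht8 a → ∀ b ∈ S17, 29 ≤ ht8 b → chevE8.pairing a b ≠ 0 := by
  decide +kernel

theorem M3_T2 : ∀ a ∈ S17, 23 ≤ ht8 a → ∀ b ∈ S17, 23 ≤ ht8 b → chevE8.pairing a b = 0 →
    ∀ c ∈ S17, 23 ≤ ht8 c → chevE8.pairing a c = 0 → chevE8.pairing b c ≠ 0 := by
  decide +kernel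

theorem M3_T3 : ∀ a ∈ S17, 19 ≤ ht8 a → ∀ b ∈ S17, 19 ≤ ht8 b → chevE8.pairing a b = 0 →
    ∀ c ∈ S17, 19 ≤ ht8 c → chevE8.pairing a c = 0 → chevE8.pairing b c = 0 →
    ∀ d ∈ S17, 19 ≤ ht8 d → chevE8.pairing a d = 0 → chevE8.pairing b d = 0 →
      chevE8.pairing c d ≠ 0 := by
  decide +kernel

theorem M3_lt : ∀ a ∈ S17, a < chevE8.nroots := by decide +kernel

/-- vanishing below the level -/
theorem M3_v1 : ∀ s ∈ S17, ht8 s < 29 → (M3c1 s : F) = 0 := by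
  have : ∀ s ∈ S17, ht8 s < 29 → s ≠ 239 := by decide +kernel
  intro s hs h
  simp [M3c1, this s hs h]

theorem M3_v2 : ∀ s ∈ S17, ht8 s < 23 → (M3c2 s : F) = 0 := by
  have : ∀ s ∈ S17, ht8 s < 23 → s ≠ 232 ∧ s ≠ 233 := by decide +kernel
  intro s hs h
  simp [M3c2, this s hs h]

theorem M3_v3 : ∀ s ∈ S17, ht8 s < 19 → (M3c3 s : F) = 0 := by
  have : ∀ s ∈ S17, ht8 s < 19 → s ≠ 218 ∧ s ≠ 222 ∧ s ≠ 228 := by decide +kernel
  intro s hs h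
  simp [M3c3, this s hs h]

theorem M3_v4 : ∀ s ∈ S17, ht8 s < 17 → (M3c4 s : F) = 0 := by
  have : ∀ s ∈ S17, ¬ ht8 s < 17 := by decide +kernel
  intro s hs h
  exact absurd h (this s hs)

theorem M3_from1 {π : ℕ → ℕ} (hpr : ∀ a b, a < chevE8.nroots → b < chevE8.nroots →
      chevE8.pairing (π a) (π b) = chevE8.pairing a b) {s1 s2 : ℕ}
    (h1 : ∃ s ∈ S17, (29 : ℤ) ≤ ht8 s ∧ π s = s1) (h2 : ∃ s ∈ S17, (29 : ℤ) ≤ ht8 s ∧ π s = s2)
    (o12 : chevE8.pairing s1 s2 = 0) : False := by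
  obtain ⟨a, ha, ha', rfl⟩ := h1
  obtain ⟨b, hb, hb', rfl⟩ := h2
  rw [hpr a b (M3_lt a ha) (M3_lt b hb)] at o12
  exact M3_T1 a ha ha' b hb hb' o12

theorem M3_from2 {π : ℕ → ℕ} (hpr : ∀ a b, a < chevE8.nroots → b < chevE8.nroots →
      chevE8.pairing (π a) (π b) = chevE8.pairing a b) {s1 s2 s3 : ℕ}
    (h1 : ∃ s ∈ S17, (23 : ℤ) ≤ ht8 s ∧ π s = s1) (h2 : ∃ s ∈ S17, (23 : ℤ) ≤ ht8 s ∧ π s = s2)
    (h3 : ∃ s ∈ S17, (23 : ℤ) ≤ ht8 s ∧ π s = s3)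
    (o12 : chevE8.pairing s1 s2 = 0) (o13 : chevE8.pairing s1 s3 = 0)
    (o23 : chevE8.pairing s2 s3 = 0) : False := by
  obtain ⟨a, ha, ha', rfl⟩ := h1
  obtain ⟨b, hb, hb', rfl⟩ := h2
  obtain ⟨c, hc, hc', rfl⟩ := h3
  rw [hpr a b (M3_lt a ha) (M3_lt b hb)] at o12
  rw [hpr a c (M3_lt a ha) (M3_lt c hc)] at o13
  rw [hpr b c (M3_lt b hb) (M3_lt c hc)] at o23
  exact M3_T2 a ha ha' b hb hb' o12 c hc hc' o13 o23

theorem M3_from3 {π : ℕ → ℕ} (hpr : ∀ a b, a < chevE8.nroots → b < chevE8.nroots →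
      chevE8.pairing (π a) (π b) = chevE8.pairing a b) {s1 s2 s3 s4 : ℕ}
    (h1 : ∃ s ∈ S17, (19 : ℤ) ≤ ht8 s ∧ π s = s1) (h2 : ∃ s ∈ S17, (19 : ℤ) ≤ ht8 s ∧ π s = s2)
    (h3 : ∃ s ∈ S17, (19 : ℤ) ≤ ht8 s ∧ π s = s3) (h4 : ∃ s ∈ S17, (19 : ℤ) ≤ ht8 s ∧ π s = s4)
    (o12 : chevE8.pairing s1 s2 = 0) (o13 : chevE8.pairing s1 s3 = 0)
    (o23 : chevE8.pairing s2 s3 = 0) (o14 : chevE8.pairing s1 s4 = 0)
    (o24 : chevE8.pairing s2 s4 = 0) (o34 : chevE8.pairing s3 s4 = 0) : False := by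
  obtain ⟨a, ha, ha', rfl⟩ := h1
  obtain ⟨b, hb, hb', rfl⟩ := h2
  obtain ⟨c, hc, hc', rfl⟩ := h3
  obtain ⟨d, hd, hd', rfl⟩ := h4
  rw [hpr a b (M3_lt a ha) (M3_lt b hb)] at o12
  rw [hpr a c (M3_lt a ha) (M3_lt c hc)] at o13
  rw [hpr b c (M3_lt b hb) (M3_lt c hc)] at o23
  rw [hpr a d (M3_lt a ha) (M3_lt d hd)] at o14
  rw [hpr b d (M3_lt b hb) (M3_lt d hd)] at o24
  rw [hpr c d (M3_lt c hc) (M3_lt d hd)] at o34
  exact M3_T3 a ha ha' b hb hb' o12 c hc hc' o13 o23 d hd hd' o14 o24 o34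

theorem not_conj8_of (h1 : M1P hB) (h2 : M2P hB) {h : GL chevE8.Idx F} (hh : h ∈ chevE8.group F) :
    h * z1 hB * h⁻¹ ≠ z2 hB ∧ h * z1 hB * h⁻¹ ≠ z3 hB ∧ h * z1 hB * h⁻¹ ≠ z4 hB ∧
    h * z2 hB * h⁻¹ ≠ z3 hB ∧ h * z2 hB * h⁻¹ ≠ z4 hB ∧ h * z3 hB * h⁻¹ ≠ z4 hB := by
  rw [M3_z1, M3_z2, M3_z3, M3_z4]
  refine ⟨?_, ?_, ?_, ?_, ?_, ?_⟩
  · intro e
    obtain ⟨π, hpr, hs⟩ := M3_key hB h1 h2 hh e 29 23 M3_v1 M3_v2
    exact M3_from1 hpr (hs 232 (by simp [S17]) (by decide +kernel) (by simp [M3c2]))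
      (hs 233 (by simp [S17]) (by decide +kernel) (by simp [M3c2])) (by decide +kernel)
  · intro e
    obtain ⟨π, hpr, hs⟩ := M3_key hB h1 h2 hh e 29 19 M3_v1 M3_v3
    exact M3_from1 hpr (hs 218 (by simp [S17]) (by decide +kernel) (by simp [M3c3]))
      (hs 222 (by simp [S17]) (by decide +kernel) (by simp [M3c3])) (by decide +kernel)
  · intro e
    obtain ⟨π, hpr, hs⟩ := M3_key hB h1 h2 hh e 29 17 M3_v1 M3_v4
    exact M3_from1 hpr (hs 213 (by simp [S17]) (by decide +kernel) (by simp [M3c4]))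
      (hs 216 (by simp [S17]) (by decide +kernel) (by simp [M3c4])) (by decide +kernel)
  · intro e
    obtain ⟨π, hpr, hs⟩ := M3_key hB h1 h2 hh e 23 19 M3_v2 M3_v3
    exact M3_from2 hpr (hs 218 (by simp [S17]) (by decide +kernel) (by simp [M3c3]))
      (hs 222 (by simp [S17]) (by decide +kernel) (by simp [M3c3]))
      (hs 228 (by simp [S17]) (by decide +kernel) (by simp [M3c3]))
      (by decide +kernel) (by decide +kernel) (by decide +kernel)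
  · intro e
    obtain ⟨π, hpr, hs⟩ := M3_key hB h1 h2 hh e 23 17 M3_v2 M3_v4
    exact M3_from2 hpr (hs 213 (by simp [S17]) (by decide +kernel) (by simp [M3c4]))
      (hs 216 (by simp [S17]) (by decide +kernel) (by simp [M3c4]))
      (hs 220 (by simp [S17]) (by decide +kernel) (by simp [M3c4]))
      (by decide +kernel) (by decide +kernel) (by decide +kernel)
  · intro e
    obtain ⟨π, hpr, hs⟩ := M3_key hB h1 h2 hh e 19 17 M3_v3 M3_v4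
    exact M3_from3 hpr (hs 213 (by simp [S17]) (by decide +kernel) (by simp [M3c4]))
      (hs 216 (by simp [S17]) (by decide +kernel) (by simp [M3c4]))
      (hs 220 (by simp [S17]) (by decide +kernel) (by simp [M3c4]))
      (hs 226 (by simp [S17]) (by decide +kernel) (by simp [M3c4]))
      (by decide +kernel) (by decide +kernel) (by decide +kernel)
      (by decide +kernel) (by decide +kernel) (by decide +kernel)

end Cfsg.Agent.Lib.Helper17.E8I
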