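import Cfsg.Agent.Lib.Helper88.E8I.F1
import Cfsg.Agent.Lib.Helper17.E8I.M3of

set_option autoImplicit false
set_option linter.unusedSimpArgs false

/-! Piece C5 of the farm E8I (helper17) for S2176: the fusion 4A1 -> 3A1 with spectators. -/

namespace Cfsg.Agent.Lib.Helper17.E8I

open Cfsg.Lie Cfsg.Agent.Lib.Helper18 Cfsg.Agent.Lib.Helper17 Cfsg.Agent.Lib.Helper36
  Cfsg.Agent.Lib.Helper6 Matrix Cfsg.Agent.Lib.Helper88.E8I

variable {F : Type*} [Field F] (hB : Base chevE8 F)

set_option maxHeartbeats 1000000 in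
theorem C5_fusion [CharP F 2] :
    (hB.xg 131 1 * hB.xg 142 1 * hB.xg 147 1 * hB.xg 136 1) * CG.lp hB [135, 152, 126, 141] (fun _ => 1) *
      (hB.xg 131 1 * hB.xg 142 1 * hB.xg 147 1 * hB.xg 136 1)⁻¹ = CG.lp hB [135, 141, 126] (fun _ => 1) := by
  obtain ⟨x, hx⟩ : ∃ x : ℕ → GL chevE8.Idx F, x = fun k => hB.xg k 1 := ⟨_, rfl⟩
  have sw0 : ∀ r s : ℕ, 120 ≤ r → r < 240 → 120 ≤ s → s < 240 → e8add r s = none →
      ∀ z, x r * (x s * z) = x s * (x r * z) := by
    intro r s h1 h2 h3 h4 h z
    rw [hx, ← mul_assoc, ← mul_assoc]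
    beta_reduce
    rw [e8_comm_none hB r s h1 h2 h3 h4 h 1 1]
  have sw1 : ∀ r s k : ℕ, 120 ≤ r → r < 240 → 120 ≤ s → s < 240 → e8add r s = some k →
      ∀ z, x r * (x s * z) = x s * (x k * (x r * z)) := by
    intro r s k h1 h2 h3 h4 h z
    have := e8_conj_some hB r s k h1 h2 h3 h4 h 1 1
    rw [mul_one] at this
    rw [hx]
    beta_reduce
    calc hB.xg r 1 * (hB.xg s 1 * z) = (hB.xg r 1 * hB.xg s 1 * (hB.xg r 1)⁻¹) * (hB.xg r 1 * z) := by group
      _ = _ := by rw [this]; group
  have sq : ∀ r z, x r * (x r * z) = z := by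
    intro r z
    rw [hx, ← mul_assoc]
    beta_reduce
    rw [hB.xg_add, CharTwo.add_self_eq_zero, hB.xg_zero, one_mul]
  have w131_126 : ∀ z, x 131 * (x 126 * z) = x 126 * (x 131 * z) := sw0 131 126 (by norm_num) (by norm_num) (by norm_num) (by norm_num) (by decide +kernel)
  have w135_126 : ∀ z, x 135 * (x 126 * z) = x 126 * (x 135 * z) := sw0 135 126 (by norm_num) (by norm_num) (by norm_num) (by norm_num) (by decide +kernel)
  have w135_131 : ∀ z, x 135 * (x 131 * z) = x 131 * (x 137 * (x 135 * z)) := sw1 135 131 137 (by norm_num) (by norm_num) (by norm_num) (by norm_num) (by decide +kernel)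
  have w136_126 : ∀ z, x 136 * (x 126 * z) = x 126 * (x 137 * (x 136 * z)) := sw1 136 126 137 (by norm_num) (by norm_num) (by norm_num) (by norm_num) (by decide +kernel)
  have w136_131 : ∀ z, x 136 * (x 131 * z) = x 131 * (x 136 * z) := sw0 136 131 (by norm_num) (by norm_num) (by norm_num) (by norm_num) (by decide +kernel)
  have w136_135 : ∀ z, x 136 * (x 135 * z) = x 135 * (x 136 * z) := sw0 136 135 (by norm_num) (by norm_num) (by norm_num) (by norm_num) (by decide +kernel)
  have w137_126 : ∀ z, x 137 * (x 126 * z) = x 126 * (x 137 * z) := sw0 137 126 (by norm_num) (by norm_num) (by norm_num) (by norm_num) (by decide +kernel)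
  have w137_131 : ∀ z, x 137 * (x 131 * z) = x 131 * (x 137 * z) := sw0 137 131 (by norm_num) (by norm_num) (by norm_num) (by norm_num) (by decide +kernel)
  have w137_135 : ∀ z, x 137 * (x 135 * z) = x 135 * (x 137 * z) := sw0 137 135 (by norm_num) (by norm_num) (by norm_num) (by norm_num) (by decide +kernel)
  have w137_136 : ∀ z, x 137 * (x 136 * z) = x 136 * (x 137 * z) := sw0 137 136 (by norm_num) (by norm_num) (by norm_num) (by norm_num) (by decide +kernel)
  have w141_126 : ∀ z, x 141 * (x 126 * z) = x 126 * (x 141 * z) := sw0 141 126 (by norm_num) (by norm_num) (by norm_num) (by norm_num) (by decide +kernel)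
  have w141_131 : ∀ z, x 141 * (x 131 * z) = x 131 * (x 143 * (x 141 * z)) := sw1 141 131 143 (by norm_num) (by norm_num) (by norm_num) (by norm_num) (by decide +kernel)
  have w141_135 : ∀ z, x 141 * (x 135 * z) = x 135 * (x 141 * z) := sw0 141 135 (by norm_num) (by norm_num) (by norm_num) (by norm_num) (by decide +kernel)
  have w141_136 : ∀ z, x 141 * (x 136 * z) = x 136 * (x 147 * (x 141 * z)) := sw1 141 136 147 (by norm_num) (by norm_num) (by norm_num) (by norm_num) (by decide +kernel)
  have w141_137 : ∀ z, x 141 * (x 137 * z) = x 137 * (x 148 * (x 141 * z)) := sw1 141 137 148 (by norm_num) (by norm_num) (by norm_num) (by norm_num) (by decide +kernel)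
  have w142_126 : ∀ z, x 142 * (x 126 * z) = x 126 * (x 143 * (x 142 * z)) := sw1 142 126 143 (by norm_num) (by norm_num) (by norm_num) (by norm_num) (by decide +kernel)
  have w142_131 : ∀ z, x 142 * (x 131 * z) = x 131 * (x 142 * z) := sw0 142 131 (by norm_num) (by norm_num) (by norm_num) (by norm_num) (by decide +kernel)
  have w142_135 : ∀ z, x 142 * (x 135 * z) = x 135 * (x 147 * (x 142 * z)) := sw1 142 135 147 (by norm_num) (by norm_num) (by norm_num) (by norm_num) (by decide +kernel)
  have w142_136 : ∀ z, x 142 * (x 136 * z) = x 136 * (x 142 * z) := sw0 142 136 (by norm_num) (by norm_num) (by norm_num) (by norm_num) (by decide +kernel)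
  have w142_137 : ∀ z, x 142 * (x 137 * z) = x 137 * (x 152 * (x 142 * z)) := sw1 142 137 152 (by norm_num) (by norm_num) (by norm_num) (by norm_num) (by decide +kernel)
  have w142_141 : ∀ z, x 142 * (x 141 * z) = x 141 * (x 142 * z) := sw0 142 141 (by norm_num) (by norm_num) (by norm_num) (by norm_num) (by decide +kernel)
  have w143_126 : ∀ z, x 143 * (x 126 * z) = x 126 * (x 143 * z) := sw0 143 126 (by norm_num) (by norm_num) (by norm_num) (by norm_num) (by decide +kernel)
  have w143_131 : ∀ z, x 143 * (x 131 * z) = x 131 * (x 143 * z) := sw0 143 131 (by norm_num) (by norm_num) (by norm_num) (by norm_num) (by decide +kernel)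
  have w143_135 : ∀ z, x 143 * (x 135 * z) = x 135 * (x 148 * (x 143 * z)) := sw1 143 135 148 (by norm_num) (by norm_num) (by norm_num) (by norm_num) (by decide +kernel)
  have w143_136 : ∀ z, x 143 * (x 136 * z) = x 136 * (x 152 * (x 143 * z)) := sw1 143 136 152 (by norm_num) (by norm_num) (by norm_num) (by norm_num) (by decide +kernel)
  have w143_137 : ∀ z, x 143 * (x 137 * z) = x 137 * (x 143 * z) := sw0 143 137 (by norm_num) (by norm_num) (by norm_num) (by norm_num) (by decide +kernel)
  have w143_141 : ∀ z, x 143 * (x 141 * z) = x 141 * (x 143 * z) := sw0 143 141 (by norm_num) (by norm_num) (by norm_num) (by norm_num) (by decide +kernel)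
  have w143_142 : ∀ z, x 143 * (x 142 * z) = x 142 * (x 143 * z) := sw0 143 142 (by norm_num) (by norm_num) (by norm_num) (by norm_num) (by decide +kernel)
  have w147_126 : ∀ z, x 147 * (x 126 * z) = x 126 * (x 148 * (x 147 * z)) := sw1 147 126 148 (by norm_num) (by norm_num) (by norm_num) (by norm_num) (by decide +kernel)
  have w147_131 : ∀ z, x 147 * (x 131 * z) = x 131 * (x 152 * (x 147 * z)) := sw1 147 131 152 (by norm_num) (by norm_num) (by norm_num) (by norm_num) (by decide +kernel)
  have w147_135 : ∀ z, x 147 * (x 135 * z) = x 135 * (x 147 * z) := sw0 147 135 (by norm_num) (by norm_num) (by norm_num) (by norm_num) (by decide +kernel)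
  have w147_136 : ∀ z, x 147 * (x 136 * z) = x 136 * (x 147 * z) := sw0 147 136 (by norm_num) (by norm_num) (by norm_num) (by norm_num) (by decide +kernel)
  have w147_137 : ∀ z, x 147 * (x 137 * z) = x 137 * (x 147 * z) := sw0 147 137 (by norm_num) (by norm_num) (by norm_num) (by norm_num) (by decide +kernel)
  have w147_141 : ∀ z, x 147 * (x 141 * z) = x 141 * (x 147 * z) := sw0 147 141 (by norm_num) (by norm_num) (by norm_num) (by norm_num) (by decide +kernel)
  have w147_142 : ∀ z, x 147 * (x 142 * z) = x 142 * (x 147 * z) := sw0 147 142 (by norm_num) (by norm_num) (by norm_num) (by norm_num) (by decide +kernel)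
  have w147_143 : ∀ z, x 147 * (x 143 * z) = x 143 * (x 147 * z) := sw0 147 143 (by norm_num) (by norm_num) (by norm_num) (by norm_num) (by decide +kernel)
  have w148_126 : ∀ z, x 148 * (x 126 * z) = x 126 * (x 148 * z) := sw0 148 126 (by norm_num) (by norm_num) (by norm_num) (by norm_num) (by decide +kernel)
  have w148_131 : ∀ z, x 148 * (x 131 * z) = x 131 * (x 148 * z) := sw0 148 131 (by norm_num) (by norm_num) (by norm_num) (by norm_num) (by decide +kernel)
  have w148_135 : ∀ z, x 148 * (x 135 * z) = x 135 * (x 148 * z) := sw0 148 135 (by norm_num) (by norm_num) (by norm_num) (by norm_num) (by decide +kernel)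
  have w148_136 : ∀ z, x 148 * (x 136 * z) = x 136 * (x 148 * z) := sw0 148 136 (by norm_num) (by norm_num) (by norm_num) (by norm_num) (by decide +kernel)
  have w148_137 : ∀ z, x 148 * (x 137 * z) = x 137 * (x 148 * z) := sw0 148 137 (by norm_num) (by norm_num) (by norm_num) (by norm_num) (by decide +kernel)
  have w148_141 : ∀ z, x 148 * (x 141 * z) = x 141 * (x 148 * z) := sw0 148 141 (by norm_num) (by norm_num) (by norm_num) (by norm_num) (by decide +kernel)
  have w148_142 : ∀ z, x 148 * (x 142 * z) = x 142 * (x 148 * z) := sw0 148 142 (by norm_num) (by norm_num) (by norm_num) (by norm_num) (by decide +kernel)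
  have w148_143 : ∀ z, x 148 * (x 143 * z) = x 143 * (x 148 * z) := sw0 148 143 (by norm_num) (by norm_num) (by norm_num) (by norm_num) (by decide +kernel)
  have w148_147 : ∀ z, x 148 * (x 147 * z) = x 147 * (x 148 * z) := sw0 148 147 (by norm_num) (by norm_num) (by norm_num) (by norm_num) (by decide +kernel)
  have w152_126 : ∀ z, x 152 * (x 126 * z) = x 126 * (x 152 * z) := sw0 152 126 (by norm_num) (by norm_num) (by norm_num) (by norm_num) (by decide +kernel)
  have w152_131 : ∀ z, x 152 * (x 131 * z) = x 131 * (x 152 * z) := sw0 152 131 (by norm_num) (by norm_num) (by norm_num) (by norm_num) (by decide +kernel)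
  have w152_135 : ∀ z, x 152 * (x 135 * z) = x 135 * (x 152 * z) := sw0 152 135 (by norm_num) (by norm_num) (by norm_num) (by norm_num) (by decide +kernel)
  have w152_136 : ∀ z, x 152 * (x 136 * z) = x 136 * (x 152 * z) := sw0 152 136 (by norm_num) (by norm_num) (by norm_num) (by norm_num) (by decide +kernel)
  have w152_137 : ∀ z, x 152 * (x 137 * z) = x 137 * (x 152 * z) := sw0 152 137 (by norm_num) (by norm_num) (by norm_num) (by norm_num) (by decide +kernel)
  have w152_141 : ∀ z, x 152 * (x 141 * z) = x 141 * (x 152 * z) := sw0 152 141 (by norm_num) (by norm_num) (by norm_num) (by norm_num) (by decide +kernel)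
  have w152_142 : ∀ z, x 152 * (x 142 * z) = x 142 * (x 152 * z) := sw0 152 142 (by norm_num) (by norm_num) (by norm_num) (by norm_num) (by decide +kernel)
  have w152_143 : ∀ z, x 152 * (x 143 * z) = x 143 * (x 152 * z) := sw0 152 143 (by norm_num) (by norm_num) (by norm_num) (by norm_num) (by decide +kernel)
  have w152_147 : ∀ z, x 152 * (x 147 * z) = x 147 * (x 152 * z) := sw0 152 147 (by norm_num) (by norm_num) (by norm_num) (by norm_num) (by decide +kernel)
  have w152_148 : ∀ z, x 152 * (x 148 * z) = x 148 * (x 152 * z) := sw0 152 148 (by norm_num) (by norm_num) (by norm_num) (by norm_num) (by decide +kernel)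
  have e0 : hB.xg 131 1 * hB.xg 142 1 * hB.xg 147 1 * hB.xg 136 1 = x 131 * x 142 * x 147 * x 136 := by
    rw [hx]
  rw [e0]
  have e1 : CG.lp hB [135, 152, 126, 141] (fun _ => (1 : F)) = x 135 * (x 152 * (x 126 * (x 141 * 1))) := by
    rw [hx]; simp [CG.lp]
  have e2 : CG.lp hB [135, 141, 126] (fun _ => (1 : F)) = x 135 * (x 141 * (x 126 * 1)) := by
    rw [hx]; simp [CG.lp]
  rw [e1, e2, mul_inv_eq_iff_eq_mul]
  have l : x 131 * x 142 * x 147 * x 136 * (x 135 * (x 152 * (x 126 * (x 141 * 1)))) =
      x 131 * (x 142 * (x 147 * (x 136 * (x 135 * (x 152 * (x 126 * (x 141 * 1))))))) := by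
    simp only [mul_assoc]
  have r : x 135 * (x 141 * (x 126 * 1)) * (x 131 * x 142 * x 147 * x 136) =
      x 135 * (x 141 * (x 126 * (x 131 * (x 142 * (x 147 * (x 136 * 1)))))) := by
    simp only [mul_assoc, mul_one, one_mul]
  rw [l, r]
  simp only [sq, w131_126, w135_126, w135_131, w136_126, w136_131, w136_135, w137_126, w137_131, w137_135, w137_136, w141_126, w141_131, w141_135, w141_136, w141_137, w142_126, w142_131, w142_135, w142_136, w142_137, w142_141, w143_126, w143_131, w143_135, w143_136, w143_137, w143_141, w143_142, w147_126, w147_131, w147_135, w147_136, w147_137, w147_141, w147_142, w147_143, w148_126, w148_131, w148_135, w148_136, w148_137, w148_141, w148_142, w148_143, w148_147, w152_126, w152_131, w152_135, w152_136, w152_137, w152_141, w152_142, w152_143, w152_147, w152_148]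


theorem C5_tab : ∀ s : Fin 240, chevE8.pairing 135 s = 0 → chevE8.pairing 152 s = 0 →
    chevE8.pairing 126 s = 0 → chevE8.pairing 141 s = 0 → ∀ r ∈ [131, 142, 147, 136],
      s.val ≠ r ∧ s.val ≠ chevE8.neg r ∧ chevE8.commTerms r s = [] := by
  decide +kernel

/-- [C5] -/
theorem fusion8 [CharP F 2] (O' : List ℕ) (h : OL (135 :: 152 :: 126 :: 141 :: O')) : ∃ g ∈ chevE8.group F,
    g * CG.lp hB (135 :: 152 :: 126 :: 141 :: O') (fun _ => 1) * g⁻¹ =
      CG.lp hB (135 :: 141 :: 126 :: O') (fun _ => 1) := by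
  refine ⟨hB.xg 131 1 * hB.xg 142 1 * hB.xg 147 1 * hB.xg 136 1, ?_, ?_⟩
  · exact mul_mem (mul_mem (mul_mem (hB.xg_mem_group (by decide +kernel) 1) (hB.xg_mem_group (by decide +kernel) 1))
      (hB.xg_mem_group (by decide +kernel) 1)) (hB.xg_mem_group (by decide +kernel) 1)
  · have hc : ∀ r ∈ [131, 142, 147, 136], ∀ s ∈ O', ∀ u : F,
        hB.xg r 1 * hB.xg s u = hB.xg s u * hB.xg r 1 := by
      intro r hr s hs u
      have hs240 : s < 240 := h.2 s (by simp [hs])
      have hp := h.1
      simp only [List.pairwise_cons] at hp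
      have t := C5_tab ⟨s, hs240⟩ (hp.1 s (by simp [hs])) (hp.2.1 s (by simp [hs]))
        (hp.2.2.1 s (by simp [hs])) (hp.2.2.2.1 s hs) r hr
      have hr240 : r < chevE8.nroots := by
        simp only [List.mem_cons, List.not_mem_nil, or_false] at hr
        rcases hr with rfl | rfl | rfl | rfl <;> decide +kernel
      exact M3_comm hB hr240 hs240 t 1 u
    have hB' : (hB.xg 131 1 * hB.xg 142 1 * hB.xg 147 1 * hB.xg 136 1) * CG.lp hB O' (fun _ => (1 : F)) *
        (hB.xg 131 1 * hB.xg 142 1 * hB.xg 147 1 * hB.xg 136 1)⁻¹ = CG.lp hB O' (fun _ => 1) := by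
      apply CG.lp_conj_triv
      intro s hs u
      have c1 := hc 131 (by simp) s hs u
      have c2 := hc 142 (by simp) s hs u
      have c3 := hc 147 (by simp) s hs u
      have c4 := hc 136 (by simp) s hs u
      calc hB.xg 131 1 * hB.xg 142 1 * hB.xg 147 1 * hB.xg 136 1 * hB.xg s u
          = hB.xg 131 1 * hB.xg 142 1 * hB.xg 147 1 * (hB.xg 136 1 * hB.xg s u) := by group
        _ = hB.xg 131 1 * hB.xg 142 1 * (hB.xg 147 1 * hB.xg s u) * hB.xg 136 1 := by rw [c4]; group
        _ = hB.xg 131 1 * (hB.xg 142 1 * hB.xg s u) * hB.xg 147 1 * hB.xg 136 1 := by rw [c3]; group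
        _ = (hB.xg 131 1 * hB.xg s u) * hB.xg 142 1 * hB.xg 147 1 * hB.xg 136 1 := by rw [c2]; group
        _ = _ := by rw [c1]; group
    have hA := C5_fusion hB
    have s1 : CG.lp hB (135 :: 152 :: 126 :: 141 :: O') (fun _ => (1 : F)) =
        CG.lp hB [135, 152, 126, 141] (fun _ => 1) * CG.lp hB O' (fun _ => 1) := by
      simp only [CG.lp_cons, CG.lp_nil, mul_one, mul_assoc]
    have s2 : CG.lp hB (135 :: 141 :: 126 :: O') (fun _ => (1 : F)) =
        CG.lp hB [135, 141, 126] (fun _ => 1) * CG.lp hB O' (fun _ => 1) := by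
      simp only [CG.lp_cons, CG.lp_nil, mul_one, mul_assoc]
    rw [s1, s2]
    generalize hB.xg 131 1 * hB.xg 142 1 * hB.xg 147 1 * hB.xg 136 1 = g at hA hB' ⊢
    calc g * (CG.lp hB [135, 152, 126, 141] (fun _ => 1) * CG.lp hB O' (fun _ => 1)) * g⁻¹
        = (g * CG.lp hB [135, 152, 126, 141] (fun _ => 1) * g⁻¹) * (g * CG.lp hB O' (fun _ => 1) * g⁻¹) := by
          group
      _ = _ := by rw [hA, hB']

end Cfsg.Agent.Lib.Helper17.E8I
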