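import Cfsg.Agent.Lib.Helper17.CentGen
import Cfsg.Agent.Lib.Helper17.E6I.Main
import Cfsg.Agent.Lib.Helper36.ChevSyl

/-!
# Involutions of `E₈(2^a)`: definitions (helper17)
-/

set_option autoImplicit false

namespace Cfsg.Agent.Lib.Helper17.E8I

open Cfsg.Lie Cfsg.Agent.Lib.Helper18 Cfsg.Agent.Lib.Helper17 Cfsg.Agent.Lib.Helper36
  Cfsg.Agent.Lib.Helper6 Matrix

variable {F : Type*} [Field F] (hB : Base chevE8 F)

/-- the sum of two positive roots -/
def e8add (r s : ℕ) : Option ℕ :=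
  if 120 ≤ r ∧ r < 240 ∧ 120 ≤ s ∧ s < 240 then ((chevE8.commTerms r s).head?).map (·.1) else none

/-- orthogonality -/
def e8orth (r s : ℕ) : Prop := chevE8.pairing r s = 0

def z1 : GL chevE8.Idx F := hB.xg 239 1
def z2 : GL chevE8.Idx F := hB.xg 232 1 * hB.xg 233 1
def z3 : GL chevE8.Idx F := hB.xg 228 1 * hB.xg 222 1 * hB.xg 218 1
def z4 : GL chevE8.Idx F := hB.xg 226 1 * hB.xg 220 1 * hB.xg 213 1 * hB.xg 216 1

/-- conjugate to one of the four representatives -/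
def Good8 (g : GL chevE8.Idx F) : Prop :=
  ∃ h ∈ chevE8.group F, h * g * h⁻¹ = z1 hB ∨ h * g * h⁻¹ = z2 hB ∨ h * g * h⁻¹ = z3 hB ∨
    h * g * h⁻¹ = z4 hB

/-- the roots of height at least 17 -/
def S17 : List ℕ := [213, 216, 217, 218, 220, 221, 222, 223, 224, 225, 226, 227, 228, 229, 230, 231, 232, 233,
  234, 235, 236, 237, 238, 239]

/-- the height of a root -/
def ht8 (r : ℕ) : ℤ := ((List.range 8).map fun i => (chevE8.coroot.getD r #[]).getD i 0).sum

/-- four orthogonal roots whose half sum is a root -/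
def isD4 (a b c d : ℕ) : Prop := ∃ r : Fin 240, chevE8.pairing r a = 1 ∧ chevE8.pairing r b = 1 ∧
  chevE8.pairing r c = 1 ∧ chevE8.pairing r d = 1

/-- orthogonal lists of roots -/
def OL (O : List ℕ) : Prop := O.Pairwise e8orth ∧ ∀ o ∈ O, o < 240

end Cfsg.Agent.Lib.Helper17.E8I
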