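import Cfsg.Agent.Lib.Helper17.E8I.DefsE

set_option autoImplicit false

namespace Cfsg.Agent.Lib.Helper17.E8I

open Cfsg.Lie Cfsg.Agent.Lib.Helper18 Cfsg.Agent.Lib.Helper17 Cfsg.Agent.Lib.Helper36
  Cfsg.Agent.Lib.Helper6 Matrix

/-- the difference `a - r0` -/
def F3_wit (r0 a : ℕ) : ℕ := (chevE8.chainRoot (chevE8.neg r0) a 1).getD 0

end Cfsg.Agent.Lib.Helper17.E8I
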