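import Cfsg.Agent.Lib.Helper17.E8I.DefsE

set_option autoImplicit false

namespace Cfsg.Agent.Lib.Helper17.E8I

open Cfsg.Lie Cfsg.Agent.Lib.Helper18 Cfsg.Agent.Lib.Helper17 Cfsg.Agent.Lib.Helper36
  Cfsg.Agent.Lib.Helper6 Matrix

theorem F3_tab1_r140 : ∀ a : Fin 240, a.val = 140 → ∀ b : Fin 240, (e8add a b).all (fun k => decide
    ((∀ i : Fin 8, chevE8.cartan i k = chevE8.cartan i a + chevE8.cartan i b) ∧
      chevE8.pairing a b ≠ 0 ∧ chevE8.pairing a k = 1)) = true := by
  decide +kernel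

theorem F3_tab1_r141 : ∀ a : Fin 240, a.val = 141 → ∀ b : Fin 240, (e8add a b).all (fun k => decide
    ((∀ i : Fin 8, chevE8.cartan i k = chevE8.cartan i a + chevE8.cartan i b) ∧
      chevE8.pairing a b ≠ 0 ∧ chevE8.pairing a k = 1)) = true := by
  decide +kernel

theorem F3_tab1_r142 : ∀ a : Fin 240, a.val = 142 → ∀ b : Fin 240, (e8add a b).all (fun k => decide
    ((∀ i : Fin 8, chevE8.cartan i k = chevE8.cartan i a + chevE8.cartan i b) ∧
      chevE8.pairing a b ≠ 0 ∧ chevE8.pairing a k = 1)) = true := by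
  decide +kernel

theorem F3_tab1_r143 : ∀ a : Fin 240, a.val = 143 → ∀ b : Fin 240, (e8add a b).all (fun k => decide
    ((∀ i : Fin 8, chevE8.cartan i k = chevE8.cartan i a + chevE8.cartan i b) ∧
      chevE8.pairing a b ≠ 0 ∧ chevE8.pairing a k = 1)) = true := by
  decide +kernel

theorem F3_tab1_r144 : ∀ a : Fin 240, a.val = 144 → ∀ b : Fin 240, (e8add a b).all (fun k => decide
    ((∀ i : Fin 8, chevE8.cartan i k = chevE8.cartan i a + chevE8.cartan i b) ∧
      chevE8.pairing a b ≠ 0 ∧ chevE8.pairing a k = 1)) = true := by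
  decide +kernel

theorem F3_tab1_r145 : ∀ a : Fin 240, a.val = 145 → ∀ b : Fin 240, (e8add a b).all (fun k => decide
    ((∀ i : Fin 8, chevE8.cartan i k = chevE8.cartan i a + chevE8.cartan i b) ∧
      chevE8.pairing a b ≠ 0 ∧ chevE8.pairing a k = 1)) = true := by
  decide +kernel

theorem F3_tab1_r146 : ∀ a : Fin 240, a.val = 146 → ∀ b : Fin 240, (e8add a b).all (fun k => decide
    ((∀ i : Fin 8, chevE8.cartan i k = chevE8.cartan i a + chevE8.cartan i b) ∧
      chevE8.pairing a b ≠ 0 ∧ chevE8.pairing a k = 1)) = true := by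
  decide +kernel

theorem F3_tab1_r147 : ∀ a : Fin 240, a.val = 147 → ∀ b : Fin 240, (e8add a b).all (fun k => decide
    ((∀ i : Fin 8, chevE8.cartan i k = chevE8.cartan i a + chevE8.cartan i b) ∧
      chevE8.pairing a b ≠ 0 ∧ chevE8.pairing a k = 1)) = true := by
  decide +kernel

theorem F3_tab1_r148 : ∀ a : Fin 240, a.val = 148 → ∀ b : Fin 240, (e8add a b).all (fun k => decide
    ((∀ i : Fin 8, chevE8.cartan i k = chevE8.cartan i a + chevE8.cartan i b) ∧
      chevE8.pairing a b ≠ 0 ∧ chevE8.pairing a k = 1)) = true := by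
  decide +kernel

theorem F3_tab1_r149 : ∀ a : Fin 240, a.val = 149 → ∀ b : Fin 240, (e8add a b).all (fun k => decide
    ((∀ i : Fin 8, chevE8.cartan i k = chevE8.cartan i a + chevE8.cartan i b) ∧
      chevE8.pairing a b ≠ 0 ∧ chevE8.pairing a k = 1)) = true := by
  decide +kernel

theorem F3_tab1_r150 : ∀ a : Fin 240, a.val = 150 → ∀ b : Fin 240, (e8add a b).all (fun k => decide
    ((∀ i : Fin 8, chevE8.cartan i k = chevE8.cartan i a + chevE8.cartan i b) ∧
      chevE8.pairing a b ≠ 0 ∧ chevE8.pairing a k = 1)) = true := by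
  decide +kernel

theorem F3_tab1_r151 : ∀ a : Fin 240, a.val = 151 → ∀ b : Fin 240, (e8add a b).all (fun k => decide
    ((∀ i : Fin 8, chevE8.cartan i k = chevE8.cartan i a + chevE8.cartan i b) ∧
      chevE8.pairing a b ≠ 0 ∧ chevE8.pairing a k = 1)) = true := by
  decide +kernel

theorem F3_tab1_r152 : ∀ a : Fin 240, a.val = 152 → ∀ b : Fin 240, (e8add a b).all (fun k => decide
    ((∀ i : Fin 8, chevE8.cartan i k = chevE8.cartan i a + chevE8.cartan i b) ∧
      chevE8.pairing a b ≠ 0 ∧ chevE8.pairing a k = 1)) = true := by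
  decide +kernel

theorem F3_tab1_r153 : ∀ a : Fin 240, a.val = 153 → ∀ b : Fin 240, (e8add a b).all (fun k => decide
    ((∀ i : Fin 8, chevE8.cartan i k = chevE8.cartan i a + chevE8.cartan i b) ∧
      chevE8.pairing a b ≠ 0 ∧ chevE8.pairing a k = 1)) = true := by
  decide +kernel

theorem F3_tab1_r154 : ∀ a : Fin 240, a.val = 154 → ∀ b : Fin 240, (e8add a b).all (fun k => decide
    ((∀ i : Fin 8, chevE8.cartan i k = chevE8.cartan i a + chevE8.cartan i b) ∧
      chevE8.pairing a b ≠ 0 ∧ chevE8.pairing a k = 1)) = true := by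
  decide +kernel

theorem F3_tab1_r155 : ∀ a : Fin 240, a.val = 155 → ∀ b : Fin 240, (e8add a b).all (fun k => decide
    ((∀ i : Fin 8, chevE8.cartan i k = chevE8.cartan i a + chevE8.cartan i b) ∧
      chevE8.pairing a b ≠ 0 ∧ chevE8.pairing a k = 1)) = true := by
  decide +kernel

theorem F3_tab1_r156 : ∀ a : Fin 240, a.val = 156 → ∀ b : Fin 240, (e8add a b).all (fun k => decide
    ((∀ i : Fin 8, chevE8.cartan i k = chevE8.cartan i a + chevE8.cartan i b) ∧
      chevE8.pairing a b ≠ 0 ∧ chevE8.pairing a k = 1)) = true := by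
  decide +kernel

theorem F3_tab1_r157 : ∀ a : Fin 240, a.val = 157 → ∀ b : Fin 240, (e8add a b).all (fun k => decide
    ((∀ i : Fin 8, chevE8.cartan i k = chevE8.cartan i a + chevE8.cartan i b) ∧
      chevE8.pairing a b ≠ 0 ∧ chevE8.pairing a k = 1)) = true := by
  decide +kernel

theorem F3_tab1_r158 : ∀ a : Fin 240, a.val = 158 → ∀ b : Fin 240, (e8add a b).all (fun k => decide
    ((∀ i : Fin 8, chevE8.cartan i k = chevE8.cartan i a + chevE8.cartan i b) ∧
      chevE8.pairing a b ≠ 0 ∧ chevE8.pairing a k = 1)) = true := by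
  decide +kernel

theorem F3_tab1_r159 : ∀ a : Fin 240, a.val = 159 → ∀ b : Fin 240, (e8add a b).all (fun k => decide
    ((∀ i : Fin 8, chevE8.cartan i k = chevE8.cartan i a + chevE8.cartan i b) ∧
      chevE8.pairing a b ≠ 0 ∧ chevE8.pairing a k = 1)) = true := by
  decide +kernel

theorem F3_tab1_c1 : ∀ a : Fin 240, 140 ≤ a.val → a.val < 160 → ∀ b : Fin 240, (e8add a b).all (fun k => decide
    ((∀ i : Fin 8, chevE8.cartan i k = chevE8.cartan i a + chevE8.cartan i b) ∧
      chevE8.pairing a b ≠ 0 ∧ chevE8.pairing a k = 1)) = true := by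
  intro a hlo hhi b
  have h240 := a.isLt
  have g140 : a.val ≥ 140 := hlo
  rcases Nat.lt_or_ge a.val 141 with g141 | g141
  · exact F3_tab1_r140 a (Nat.le_antisymm (Nat.le_of_lt_succ g141) g140) b
  rcases Nat.lt_or_ge a.val 142 with g142 | g142
  · exact F3_tab1_r141 a (Nat.le_antisymm (Nat.le_of_lt_succ g142) g141) b
  rcases Nat.lt_or_ge a.val 143 with g143 | g143
  · exact F3_tab1_r142 a (Nat.le_antisymm (Nat.le_of_lt_succ g143) g142) b
  rcases Nat.lt_or_ge a.val 144 with g144 | g144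
  · exact F3_tab1_r143 a (Nat.le_antisymm (Nat.le_of_lt_succ g144) g143) b
  rcases Nat.lt_or_ge a.val 145 with g145 | g145
  · exact F3_tab1_r144 a (Nat.le_antisymm (Nat.le_of_lt_succ g145) g144) b
  rcases Nat.lt_or_ge a.val 146 with g146 | g146
  · exact F3_tab1_r145 a (Nat.le_antisymm (Nat.le_of_lt_succ g146) g145) b
  rcases Nat.lt_or_ge a.val 147 with g147 | g147
  · exact F3_tab1_r146 a (Nat.le_antisymm (Nat.le_of_lt_succ g147) g146) b
  rcases Nat.lt_or_ge a.val 148 with g148 | g148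
  · exact F3_tab1_r147 a (Nat.le_antisymm (Nat.le_of_lt_succ g148) g147) b
  rcases Nat.lt_or_ge a.val 149 with g149 | g149
  · exact F3_tab1_r148 a (Nat.le_antisymm (Nat.le_of_lt_succ g149) g148) b
  rcases Nat.lt_or_ge a.val 150 with g150 | g150
  · exact F3_tab1_r149 a (Nat.le_antisymm (Nat.le_of_lt_succ g150) g149) b
  rcases Nat.lt_or_ge a.val 151 with g151 | g151
  · exact F3_tab1_r150 a (Nat.le_antisymm (Nat.le_of_lt_succ g151) g150) b
  rcases Nat.lt_or_ge a.val 152 with g152 | g152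
  · exact F3_tab1_r151 a (Nat.le_antisymm (Nat.le_of_lt_succ g152) g151) b
  rcases Nat.lt_or_ge a.val 153 with g153 | g153
  · exact F3_tab1_r152 a (Nat.le_antisymm (Nat.le_of_lt_succ g153) g152) b
  rcases Nat.lt_or_ge a.val 154 with g154 | g154
  · exact F3_tab1_r153 a (Nat.le_antisymm (Nat.le_of_lt_succ g154) g153) b
  rcases Nat.lt_or_ge a.val 155 with g155 | g155
  · exact F3_tab1_r154 a (Nat.le_antisymm (Nat.le_of_lt_succ g155) g154) b
  rcases Nat.lt_or_ge a.val 156 with g156 | g156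
  · exact F3_tab1_r155 a (Nat.le_antisymm (Nat.le_of_lt_succ g156) g155) b
  rcases Nat.lt_or_ge a.val 157 with g157 | g157
  · exact F3_tab1_r156 a (Nat.le_antisymm (Nat.le_of_lt_succ g157) g156) b
  rcases Nat.lt_or_ge a.val 158 with g158 | g158
  · exact F3_tab1_r157 a (Nat.le_antisymm (Nat.le_of_lt_succ g158) g157) b
  rcases Nat.lt_or_ge a.val 159 with g159 | g159
  · exact F3_tab1_r158 a (Nat.le_antisymm (Nat.le_of_lt_succ g159) g158) b
  exact F3_tab1_r159 a (Nat.le_antisymm (Nat.le_of_lt_succ hhi) g159) b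

end Cfsg.Agent.Lib.Helper17.E8I
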