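import Cfsg.Agent.Lib.Helper17.E8I.DefsE

set_option autoImplicit false

namespace Cfsg.Agent.Lib.Helper17.E8I

open Cfsg.Lie Cfsg.Agent.Lib.Helper18 Cfsg.Agent.Lib.Helper17 Cfsg.Agent.Lib.Helper36
  Cfsg.Agent.Lib.Helper6 Matrix

theorem F3_tab1_r160 : ∀ a : Fin 240, a.val = 160 → ∀ b : Fin 240, (e8add a b).all (fun k => decide
    ((∀ i : Fin 8, chevE8.cartan i k = chevE8.cartan i a + chevE8.cartan i b) ∧
      chevE8.pairing a b ≠ 0 ∧ chevE8.pairing a k = 1)) = true := by
  decide +kernel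

theorem F3_tab1_r161 : ∀ a : Fin 240, a.val = 161 → ∀ b : Fin 240, (e8add a b).all (fun k => decide
    ((∀ i : Fin 8, chevE8.cartan i k = chevE8.cartan i a + chevE8.cartan i b) ∧
      chevE8.pairing a b ≠ 0 ∧ chevE8.pairing a k = 1)) = true := by
  decide +kernel

theorem F3_tab1_r162 : ∀ a : Fin 240, a.val = 162 → ∀ b : Fin 240, (e8add a b).all (fun k => decide
    ((∀ i : Fin 8, chevE8.cartan i k = chevE8.cartan i a + chevE8.cartan i b) ∧
      chevE8.pairing a b ≠ 0 ∧ chevE8.pairing a k = 1)) = true := by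
  decide +kernel

theorem F3_tab1_r163 : ∀ a : Fin 240, a.val = 163 → ∀ b : Fin 240, (e8add a b).all (fun k => decide
    ((∀ i : Fin 8, chevE8.cartan i k = chevE8.cartan i a + chevE8.cartan i b) ∧
      chevE8.pairing a b ≠ 0 ∧ chevE8.pairing a k = 1)) = true := by
  decide +kernel

theorem F3_tab1_r164 : ∀ a : Fin 240, a.val = 164 → ∀ b : Fin 240, (e8add a b).all (fun k => decide
    ((∀ i : Fin 8, chevE8.cartan i k = chevE8.cartan i a + chevE8.cartan i b) ∧
      chevE8.pairing a b ≠ 0 ∧ chevE8.pairing a k = 1)) = true := by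
  decide +kernel

theorem F3_tab1_r165 : ∀ a : Fin 240, a.val = 165 → ∀ b : Fin 240, (e8add a b).all (fun k => decide
    ((∀ i : Fin 8, chevE8.cartan i k = chevE8.cartan i a + chevE8.cartan i b) ∧
      chevE8.pairing a b ≠ 0 ∧ chevE8.pairing a k = 1)) = true := by
  decide +kernel

theorem F3_tab1_r166 : ∀ a : Fin 240, a.val = 166 → ∀ b : Fin 240, (e8add a b).all (fun k => decide
    ((∀ i : Fin 8, chevE8.cartan i k = chevE8.cartan i a + chevE8.cartan i b) ∧
      chevE8.pairing a b ≠ 0 ∧ chevE8.pairing a k = 1)) = true := by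
  decide +kernel

theorem F3_tab1_r167 : ∀ a : Fin 240, a.val = 167 → ∀ b : Fin 240, (e8add a b).all (fun k => decide
    ((∀ i : Fin 8, chevE8.cartan i k = chevE8.cartan i a + chevE8.cartan i b) ∧
      chevE8.pairing a b ≠ 0 ∧ chevE8.pairing a k = 1)) = true := by
  decide +kernel

theorem F3_tab1_r168 : ∀ a : Fin 240, a.val = 168 → ∀ b : Fin 240, (e8add a b).all (fun k => decide
    ((∀ i : Fin 8, chevE8.cartan i k = chevE8.cartan i a + chevE8.cartan i b) ∧
      chevE8.pairing a b ≠ 0 ∧ chevE8.pairing a k = 1)) = true := by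
  decide +kernel

theorem F3_tab1_r169 : ∀ a : Fin 240, a.val = 169 → ∀ b : Fin 240, (e8add a b).all (fun k => decide
    ((∀ i : Fin 8, chevE8.cartan i k = chevE8.cartan i a + chevE8.cartan i b) ∧
      chevE8.pairing a b ≠ 0 ∧ chevE8.pairing a k = 1)) = true := by
  decide +kernel

theorem F3_tab1_r170 : ∀ a : Fin 240, a.val = 170 → ∀ b : Fin 240, (e8add a b).all (fun k => decide
    ((∀ i : Fin 8, chevE8.cartan i k = chevE8.cartan i a + chevE8.cartan i b) ∧
      chevE8.pairing a b ≠ 0 ∧ chevE8.pairing a k = 1)) = true := by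
  decide +kernel

theorem F3_tab1_r171 : ∀ a : Fin 240, a.val = 171 → ∀ b : Fin 240, (e8add a b).all (fun k => decide
    ((∀ i : Fin 8, chevE8.cartan i k = chevE8.cartan i a + chevE8.cartan i b) ∧
      chevE8.pairing a b ≠ 0 ∧ chevE8.pairing a k = 1)) = true := by
  decide +kernel

theorem F3_tab1_r172 : ∀ a : Fin 240, a.val = 172 → ∀ b : Fin 240, (e8add a b).all (fun k => decide
    ((∀ i : Fin 8, chevE8.cartan i k = chevE8.cartan i a + chevE8.cartan i b) ∧
      chevE8.pairing a b ≠ 0 ∧ chevE8.pairing a k = 1)) = true := by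
  decide +kernel

theorem F3_tab1_r173 : ∀ a : Fin 240, a.val = 173 → ∀ b : Fin 240, (e8add a b).all (fun k => decide
    ((∀ i : Fin 8, chevE8.cartan i k = chevE8.cartan i a + chevE8.cartan i b) ∧
      chevE8.pairing a b ≠ 0 ∧ chevE8.pairing a k = 1)) = true := by
  decide +kernel

theorem F3_tab1_r174 : ∀ a : Fin 240, a.val = 174 → ∀ b : Fin 240, (e8add a b).all (fun k => decide
    ((∀ i : Fin 8, chevE8.cartan i k = chevE8.cartan i a + chevE8.cartan i b) ∧
      chevE8.pairing a b ≠ 0 ∧ chevE8.pairing a k = 1)) = true := by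
  decide +kernel

theorem F3_tab1_r175 : ∀ a : Fin 240, a.val = 175 → ∀ b : Fin 240, (e8add a b).all (fun k => decide
    ((∀ i : Fin 8, chevE8.cartan i k = chevE8.cartan i a + chevE8.cartan i b) ∧
      chevE8.pairing a b ≠ 0 ∧ chevE8.pairing a k = 1)) = true := by
  decide +kernel

theorem F3_tab1_r176 : ∀ a : Fin 240, a.val = 176 → ∀ b : Fin 240, (e8add a b).all (fun k => decide
    ((∀ i : Fin 8, chevE8.cartan i k = chevE8.cartan i a + chevE8.cartan i b) ∧
      chevE8.pairing a b ≠ 0 ∧ chevE8.pairing a k = 1)) = true := by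
  decide +kernel

theorem F3_tab1_r177 : ∀ a : Fin 240, a.val = 177 → ∀ b : Fin 240, (e8add a b).all (fun k => decide
    ((∀ i : Fin 8, chevE8.cartan i k = chevE8.cartan i a + chevE8.cartan i b) ∧
      chevE8.pairing a b ≠ 0 ∧ chevE8.pairing a k = 1)) = true := by
  decide +kernel

theorem F3_tab1_r178 : ∀ a : Fin 240, a.val = 178 → ∀ b : Fin 240, (e8add a b).all (fun k => decide
    ((∀ i : Fin 8, chevE8.cartan i k = chevE8.cartan i a + chevE8.cartan i b) ∧
      chevE8.pairing a b ≠ 0 ∧ chevE8.pairing a k = 1)) = true := by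
  decide +kernel

theorem F3_tab1_r179 : ∀ a : Fin 240, a.val = 179 → ∀ b : Fin 240, (e8add a b).all (fun k => decide
    ((∀ i : Fin 8, chevE8.cartan i k = chevE8.cartan i a + chevE8.cartan i b) ∧
      chevE8.pairing a b ≠ 0 ∧ chevE8.pairing a k = 1)) = true := by
  decide +kernel

theorem F3_tab1_c2 : ∀ a : Fin 240, 160 ≤ a.val → a.val < 180 → ∀ b : Fin 240, (e8add a b).all (fun k => decide
    ((∀ i : Fin 8, chevE8.cartan i k = chevE8.cartan i a + chevE8.cartan i b) ∧
      chevE8.pairing a b ≠ 0 ∧ chevE8.pairing a k = 1)) = true := by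
  intro a hlo hhi b
  have h240 := a.isLt
  have g160 : a.val ≥ 160 := hlo
  rcases Nat.lt_or_ge a.val 161 with g161 | g161
  · exact F3_tab1_r160 a (Nat.le_antisymm (Nat.le_of_lt_succ g161) g160) b
  rcases Nat.lt_or_ge a.val 162 with g162 | g162
  · exact F3_tab1_r161 a (Nat.le_antisymm (Nat.le_of_lt_succ g162) g161) b
  rcases Nat.lt_or_ge a.val 163 with g163 | g163
  · exact F3_tab1_r162 a (Nat.le_antisymm (Nat.le_of_lt_succ g163) g162) b
  rcases Nat.lt_or_ge a.val 164 with g164 | g164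
  · exact F3_tab1_r163 a (Nat.le_antisymm (Nat.le_of_lt_succ g164) g163) b
  rcases Nat.lt_or_ge a.val 165 with g165 | g165
  · exact F3_tab1_r164 a (Nat.le_antisymm (Nat.le_of_lt_succ g165) g164) b
  rcases Nat.lt_or_ge a.val 166 with g166 | g166
  · exact F3_tab1_r165 a (Nat.le_antisymm (Nat.le_of_lt_succ g166) g165) b
  rcases Nat.lt_or_ge a.val 167 with g167 | g167
  · exact F3_tab1_r166 a (Nat.le_antisymm (Nat.le_of_lt_succ g167) g166) b
  rcases Nat.lt_or_ge a.val 168 with g168 | g168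
  · exact F3_tab1_r167 a (Nat.le_antisymm (Nat.le_of_lt_succ g168) g167) b
  rcases Nat.lt_or_ge a.val 169 with g169 | g169
  · exact F3_tab1_r168 a (Nat.le_antisymm (Nat.le_of_lt_succ g169) g168) b
  rcases Nat.lt_or_ge a.val 170 with g170 | g170
  · exact F3_tab1_r169 a (Nat.le_antisymm (Nat.le_of_lt_succ g170) g169) b
  rcases Nat.lt_or_ge a.val 171 with g171 | g171
  · exact F3_tab1_r170 a (Nat.le_antisymm (Nat.le_of_lt_succ g171) g170) b
  rcases Nat.lt_or_ge a.val 172 with g172 | g172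
  · exact F3_tab1_r171 a (Nat.le_antisymm (Nat.le_of_lt_succ g172) g171) b
  rcases Nat.lt_or_ge a.val 173 with g173 | g173
  · exact F3_tab1_r172 a (Nat.le_antisymm (Nat.le_of_lt_succ g173) g172) b
  rcases Nat.lt_or_ge a.val 174 with g174 | g174
  · exact F3_tab1_r173 a (Nat.le_antisymm (Nat.le_of_lt_succ g174) g173) b
  rcases Nat.lt_or_ge a.val 175 with g175 | g175
  · exact F3_tab1_r174 a (Nat.le_antisymm (Nat.le_of_lt_succ g175) g174) b
  rcases Nat.lt_or_ge a.val 176 with g176 | g176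
  · exact F3_tab1_r175 a (Nat.le_antisymm (Nat.le_of_lt_succ g176) g175) b
  rcases Nat.lt_or_ge a.val 177 with g177 | g177
  · exact F3_tab1_r176 a (Nat.le_antisymm (Nat.le_of_lt_succ g177) g176) b
  rcases Nat.lt_or_ge a.val 178 with g178 | g178
  · exact F3_tab1_r177 a (Nat.le_antisymm (Nat.le_of_lt_succ g178) g177) b
  rcases Nat.lt_or_ge a.val 179 with g179 | g179
  · exact F3_tab1_r178 a (Nat.le_antisymm (Nat.le_of_lt_succ g179) g178) b
  exact F3_tab1_r179 a (Nat.le_antisymm (Nat.le_of_lt_succ hhi) g179) b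

end Cfsg.Agent.Lib.Helper17.E8I
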