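import Cfsg.Agent.Lib.Helper17.E8I.DefsE

set_option autoImplicit false

namespace Cfsg.Agent.Lib.Helper17.E8I

open Cfsg.Lie Cfsg.Agent.Lib.Helper18 Cfsg.Agent.Lib.Helper17 Cfsg.Agent.Lib.Helper36
  Cfsg.Agent.Lib.Helper6 Matrix

theorem F3_tab1_r180 : ∀ a : Fin 240, a.val = 180 → ∀ b : Fin 240, (e8add a b).all (fun k => decide
    ((∀ i : Fin 8, chevE8.cartan i k = chevE8.cartan i a + chevE8.cartan i b) ∧
      chevE8.pairing a b ≠ 0 ∧ chevE8.pairing a k = 1)) = true := by
  decide +kernel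

theorem F3_tab1_r181 : ∀ a : Fin 240, a.val = 181 → ∀ b : Fin 240, (e8add a b).all (fun k => decide
    ((∀ i : Fin 8, chevE8.cartan i k = chevE8.cartan i a + chevE8.cartan i b) ∧
      chevE8.pairing a b ≠ 0 ∧ chevE8.pairing a k = 1)) = true := by
  decide +kernel

theorem F3_tab1_r182 : ∀ a : Fin 240, a.val = 182 → ∀ b : Fin 240, (e8add a b).all (fun k => decide
    ((∀ i : Fin 8, chevE8.cartan i k = chevE8.cartan i a + chevE8.cartan i b) ∧
      chevE8.pairing a b ≠ 0 ∧ chevE8.pairing a k = 1)) = true := by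
  decide +kernel

theorem F3_tab1_r183 : ∀ a : Fin 240, a.val = 183 → ∀ b : Fin 240, (e8add a b).all (fun k => decide
    ((∀ i : Fin 8, chevE8.cartan i k = chevE8.cartan i a + chevE8.cartan i b) ∧
      chevE8.pairing a b ≠ 0 ∧ chevE8.pairing a k = 1)) = true := by
  decide +kernel

theorem F3_tab1_r184 : ∀ a : Fin 240, a.val = 184 → ∀ b : Fin 240, (e8add a b).all (fun k => decide
    ((∀ i : Fin 8, chevE8.cartan i k = chevE8.cartan i a + chevE8.cartan i b) ∧
      chevE8.pairing a b ≠ 0 ∧ chevE8.pairing a k = 1)) = true := by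
  decide +kernel

theorem F3_tab1_r185 : ∀ a : Fin 240, a.val = 185 → ∀ b : Fin 240, (e8add a b).all (fun k => decide
    ((∀ i : Fin 8, chevE8.cartan i k = chevE8.cartan i a + chevE8.cartan i b) ∧
      chevE8.pairing a b ≠ 0 ∧ chevE8.pairing a k = 1)) = true := by
  decide +kernel

theorem F3_tab1_r186 : ∀ a : Fin 240, a.val = 186 → ∀ b : Fin 240, (e8add a b).all (fun k => decide
    ((∀ i : Fin 8, chevE8.cartan i k = chevE8.cartan i a + chevE8.cartan i b) ∧
      chevE8.pairing a b ≠ 0 ∧ chevE8.pairing a k = 1)) = true := by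
  decide +kernel

theorem F3_tab1_r187 : ∀ a : Fin 240, a.val = 187 → ∀ b : Fin 240, (e8add a b).all (fun k => decide
    ((∀ i : Fin 8, chevE8.cartan i k = chevE8.cartan i a + chevE8.cartan i b) ∧
      chevE8.pairing a b ≠ 0 ∧ chevE8.pairing a k = 1)) = true := by
  decide +kernel

theorem F3_tab1_r188 : ∀ a : Fin 240, a.val = 188 → ∀ b : Fin 240, (e8add a b).all (fun k => decide
    ((∀ i : Fin 8, chevE8.cartan i k = chevE8.cartan i a + chevE8.cartan i b) ∧
      chevE8.pairing a b ≠ 0 ∧ chevE8.pairing a k = 1)) = true := by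
  decide +kernel

theorem F3_tab1_r189 : ∀ a : Fin 240, a.val = 189 → ∀ b : Fin 240, (e8add a b).all (fun k => decide
    ((∀ i : Fin 8, chevE8.cartan i k = chevE8.cartan i a + chevE8.cartan i b) ∧
      chevE8.pairing a b ≠ 0 ∧ chevE8.pairing a k = 1)) = true := by
  decide +kernel

theorem F3_tab1_r190 : ∀ a : Fin 240, a.val = 190 → ∀ b : Fin 240, (e8add a b).all (fun k => decide
    ((∀ i : Fin 8, chevE8.cartan i k = chevE8.cartan i a + chevE8.cartan i b) ∧
      chevE8.pairing a b ≠ 0 ∧ chevE8.pairing a k = 1)) = true := by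
  decide +kernel

theorem F3_tab1_r191 : ∀ a : Fin 240, a.val = 191 → ∀ b : Fin 240, (e8add a b).all (fun k => decide
    ((∀ i : Fin 8, chevE8.cartan i k = chevE8.cartan i a + chevE8.cartan i b) ∧
      chevE8.pairing a b ≠ 0 ∧ chevE8.pairing a k = 1)) = true := by
  decide +kernel

theorem F3_tab1_r192 : ∀ a : Fin 240, a.val = 192 → ∀ b : Fin 240, (e8add a b).all (fun k => decide
    ((∀ i : Fin 8, chevE8.cartan i k = chevE8.cartan i a + chevE8.cartan i b) ∧
      chevE8.pairing a b ≠ 0 ∧ chevE8.pairing a k = 1)) = true := by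
  decide +kernel

theorem F3_tab1_r193 : ∀ a : Fin 240, a.val = 193 → ∀ b : Fin 240, (e8add a b).all (fun k => decide
    ((∀ i : Fin 8, chevE8.cartan i k = chevE8.cartan i a + chevE8.cartan i b) ∧
      chevE8.pairing a b ≠ 0 ∧ chevE8.pairing a k = 1)) = true := by
  decide +kernel

theorem F3_tab1_r194 : ∀ a : Fin 240, a.val = 194 → ∀ b : Fin 240, (e8add a b).all (fun k => decide
    ((∀ i : Fin 8, chevE8.cartan i k = chevE8.cartan i a + chevE8.cartan i b) ∧
      chevE8.pairing a b ≠ 0 ∧ chevE8.pairing a k = 1)) = true := by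
  decide +kernel

theorem F3_tab1_r195 : ∀ a : Fin 240, a.val = 195 → ∀ b : Fin 240, (e8add a b).all (fun k => decide
    ((∀ i : Fin 8, chevE8.cartan i k = chevE8.cartan i a + chevE8.cartan i b) ∧
      chevE8.pairing a b ≠ 0 ∧ chevE8.pairing a k = 1)) = true := by
  decide +kernel

theorem F3_tab1_r196 : ∀ a : Fin 240, a.val = 196 → ∀ b : Fin 240, (e8add a b).all (fun k => decide
    ((∀ i : Fin 8, chevE8.cartan i k = chevE8.cartan i a + chevE8.cartan i b) ∧
      chevE8.pairing a b ≠ 0 ∧ chevE8.pairing a k = 1)) = true := by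
  decide +kernel

theorem F3_tab1_r197 : ∀ a : Fin 240, a.val = 197 → ∀ b : Fin 240, (e8add a b).all (fun k => decide
    ((∀ i : Fin 8, chevE8.cartan i k = chevE8.cartan i a + chevE8.cartan i b) ∧
      chevE8.pairing a b ≠ 0 ∧ chevE8.pairing a k = 1)) = true := by
  decide +kernel

theorem F3_tab1_r198 : ∀ a : Fin 240, a.val = 198 → ∀ b : Fin 240, (e8add a b).all (fun k => decide
    ((∀ i : Fin 8, chevE8.cartan i k = chevE8.cartan i a + chevE8.cartan i b) ∧
      chevE8.pairing a b ≠ 0 ∧ chevE8.pairing a k = 1)) = true := by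
  decide +kernel

theorem F3_tab1_r199 : ∀ a : Fin 240, a.val = 199 → ∀ b : Fin 240, (e8add a b).all (fun k => decide
    ((∀ i : Fin 8, chevE8.cartan i k = chevE8.cartan i a + chevE8.cartan i b) ∧
      chevE8.pairing a b ≠ 0 ∧ chevE8.pairing a k = 1)) = true := by
  decide +kernel

theorem F3_tab1_c3 : ∀ a : Fin 240, 180 ≤ a.val → a.val < 200 → ∀ b : Fin 240, (e8add a b).all (fun k => decide
    ((∀ i : Fin 8, chevE8.cartan i k = chevE8.cartan i a + chevE8.cartan i b) ∧
      chevE8.pairing a b ≠ 0 ∧ chevE8.pairing a k = 1)) = true := by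
  intro a hlo hhi b
  have h240 := a.isLt
  have g180 : a.val ≥ 180 := hlo
  rcases Nat.lt_or_ge a.val 181 with g181 | g181
  · exact F3_tab1_r180 a (Nat.le_antisymm (Nat.le_of_lt_succ g181) g180) b
  rcases Nat.lt_or_ge a.val 182 with g182 | g182
  · exact F3_tab1_r181 a (Nat.le_antisymm (Nat.le_of_lt_succ g182) g181) b
  rcases Nat.lt_or_ge a.val 183 with g183 | g183
  · exact F3_tab1_r182 a (Nat.le_antisymm (Nat.le_of_lt_succ g183) g182) b
  rcases Nat.lt_or_ge a.val 184 with g184 | g184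
  · exact F3_tab1_r183 a (Nat.le_antisymm (Nat.le_of_lt_succ g184) g183) b
  rcases Nat.lt_or_ge a.val 185 with g185 | g185
  · exact F3_tab1_r184 a (Nat.le_antisymm (Nat.le_of_lt_succ g185) g184) b
  rcases Nat.lt_or_ge a.val 186 with g186 | g186
  · exact F3_tab1_r185 a (Nat.le_antisymm (Nat.le_of_lt_succ g186) g185) b
  rcases Nat.lt_or_ge a.val 187 with g187 | g187
  · exact F3_tab1_r186 a (Nat.le_antisymm (Nat.le_of_lt_succ g187) g186) b
  rcases Nat.lt_or_ge a.val 188 with g188 | g188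
  · exact F3_tab1_r187 a (Nat.le_antisymm (Nat.le_of_lt_succ g188) g187) b
  rcases Nat.lt_or_ge a.val 189 with g189 | g189
  · exact F3_tab1_r188 a (Nat.le_antisymm (Nat.le_of_lt_succ g189) g188) b
  rcases Nat.lt_or_ge a.val 190 with g190 | g190
  · exact F3_tab1_r189 a (Nat.le_antisymm (Nat.le_of_lt_succ g190) g189) b
  rcases Nat.lt_or_ge a.val 191 with g191 | g191
  · exact F3_tab1_r190 a (Nat.le_antisymm (Nat.le_of_lt_succ g191) g190) b
  rcases Nat.lt_or_ge a.val 192 with g192 | g192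
  · exact F3_tab1_r191 a (Nat.le_antisymm (Nat.le_of_lt_succ g192) g191) b
  rcases Nat.lt_or_ge a.val 193 with g193 | g193
  · exact F3_tab1_r192 a (Nat.le_antisymm (Nat.le_of_lt_succ g193) g192) b
  rcases Nat.lt_or_ge a.val 194 with g194 | g194
  · exact F3_tab1_r193 a (Nat.le_antisymm (Nat.le_of_lt_succ g194) g193) b
  rcases Nat.lt_or_ge a.val 195 with g195 | g195
  · exact F3_tab1_r194 a (Nat.le_antisymm (Nat.le_of_lt_succ g195) g194) b
  rcases Nat.lt_or_ge a.val 196 with g196 | g196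
  · exact F3_tab1_r195 a (Nat.le_antisymm (Nat.le_of_lt_succ g196) g195) b
  rcases Nat.lt_or_ge a.val 197 with g197 | g197
  · exact F3_tab1_r196 a (Nat.le_antisymm (Nat.le_of_lt_succ g197) g196) b
  rcases Nat.lt_or_ge a.val 198 with g198 | g198
  · exact F3_tab1_r197 a (Nat.le_antisymm (Nat.le_of_lt_succ g198) g197) b
  rcases Nat.lt_or_ge a.val 199 with g199 | g199
  · exact F3_tab1_r198 a (Nat.le_antisymm (Nat.le_of_lt_succ g199) g198) b
  exact F3_tab1_r199 a (Nat.le_antisymm (Nat.le_of_lt_succ hhi) g199) b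

end Cfsg.Agent.Lib.Helper17.E8I
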