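import Cfsg.Agent.Lib.Helper17.E8I.DefsE

set_option autoImplicit false

namespace Cfsg.Agent.Lib.Helper17.E8I

open Cfsg.Lie Cfsg.Agent.Lib.Helper18 Cfsg.Agent.Lib.Helper17 Cfsg.Agent.Lib.Helper36
  Cfsg.Agent.Lib.Helper6 Matrix

theorem F3_tab1_r200 : ∀ a : Fin 240, a.val = 200 → ∀ b : Fin 240, (e8add a b).all (fun k => decide
    ((∀ i : Fin 8, chevE8.cartan i k = chevE8.cartan i a + chevE8.cartan i b) ∧
      chevE8.pairing a b ≠ 0 ∧ chevE8.pairing a k = 1)) = true := by
  decide +kernel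

theorem F3_tab1_r201 : ∀ a : Fin 240, a.val = 201 → ∀ b : Fin 240, (e8add a b).all (fun k => decide
    ((∀ i : Fin 8, chevE8.cartan i k = chevE8.cartan i a + chevE8.cartan i b) ∧
      chevE8.pairing a b ≠ 0 ∧ chevE8.pairing a k = 1)) = true := by
  decide +kernel

theorem F3_tab1_r202 : ∀ a : Fin 240, a.val = 202 → ∀ b : Fin 240, (e8add a b).all (fun k => decide
    ((∀ i : Fin 8, chevE8.cartan i k = chevE8.cartan i a + chevE8.cartan i b) ∧
      chevE8.pairing a b ≠ 0 ∧ chevE8.pairing a k = 1)) = true := by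
  decide +kernel

theorem F3_tab1_r203 : ∀ a : Fin 240, a.val = 203 → ∀ b : Fin 240, (e8add a b).all (fun k => decide
    ((∀ i : Fin 8, chevE8.cartan i k = chevE8.cartan i a + chevE8.cartan i b) ∧
      chevE8.pairing a b ≠ 0 ∧ chevE8.pairing a k = 1)) = true := by
  decide +kernel

theorem F3_tab1_r204 : ∀ a : Fin 240, a.val = 204 → ∀ b : Fin 240, (e8add a b).all (fun k => decide
    ((∀ i : Fin 8, chevE8.cartan i k = chevE8.cartan i a + chevE8.cartan i b) ∧
      chevE8.pairing a b ≠ 0 ∧ chevE8.pairing a k = 1)) = true := by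
  decide +kernel

theorem F3_tab1_r205 : ∀ a : Fin 240, a.val = 205 → ∀ b : Fin 240, (e8add a b).all (fun k => decide
    ((∀ i : Fin 8, chevE8.cartan i k = chevE8.cartan i a + chevE8.cartan i b) ∧
      chevE8.pairing a b ≠ 0 ∧ chevE8.pairing a k = 1)) = true := by
  decide +kernel

theorem F3_tab1_r206 : ∀ a : Fin 240, a.val = 206 → ∀ b : Fin 240, (e8add a b).all (fun k => decide
    ((∀ i : Fin 8, chevE8.cartan i k = chevE8.cartan i a + chevE8.cartan i b) ∧
      chevE8.pairing a b ≠ 0 ∧ chevE8.pairing a k = 1)) = true := by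
  decide +kernel

theorem F3_tab1_r207 : ∀ a : Fin 240, a.val = 207 → ∀ b : Fin 240, (e8add a b).all (fun k => decide
    ((∀ i : Fin 8, chevE8.cartan i k = chevE8.cartan i a + chevE8.cartan i b) ∧
      chevE8.pairing a b ≠ 0 ∧ chevE8.pairing a k = 1)) = true := by
  decide +kernel

theorem F3_tab1_r208 : ∀ a : Fin 240, a.val = 208 → ∀ b : Fin 240, (e8add a b).all (fun k => decide
    ((∀ i : Fin 8, chevE8.cartan i k = chevE8.cartan i a + chevE8.cartan i b) ∧
      chevE8.pairing a b ≠ 0 ∧ chevE8.pairing a k = 1)) = true := by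
  decide +kernel

theorem F3_tab1_r209 : ∀ a : Fin 240, a.val = 209 → ∀ b : Fin 240, (e8add a b).all (fun k => decide
    ((∀ i : Fin 8, chevE8.cartan i k = chevE8.cartan i a + chevE8.cartan i b) ∧
      chevE8.pairing a b ≠ 0 ∧ chevE8.pairing a k = 1)) = true := by
  decide +kernel

theorem F3_tab1_r210 : ∀ a : Fin 240, a.val = 210 → ∀ b : Fin 240, (e8add a b).all (fun k => decide
    ((∀ i : Fin 8, chevE8.cartan i k = chevE8.cartan i a + chevE8.cartan i b) ∧
      chevE8.pairing a b ≠ 0 ∧ chevE8.pairing a k = 1)) = true := by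
  decide +kernel

theorem F3_tab1_r211 : ∀ a : Fin 240, a.val = 211 → ∀ b : Fin 240, (e8add a b).all (fun k => decide
    ((∀ i : Fin 8, chevE8.cartan i k = chevE8.cartan i a + chevE8.cartan i b) ∧
      chevE8.pairing a b ≠ 0 ∧ chevE8.pairing a k = 1)) = true := by
  decide +kernel

theorem F3_tab1_r212 : ∀ a : Fin 240, a.val = 212 → ∀ b : Fin 240, (e8add a b).all (fun k => decide
    ((∀ i : Fin 8, chevE8.cartan i k = chevE8.cartan i a + chevE8.cartan i b) ∧
      chevE8.pairing a b ≠ 0 ∧ chevE8.pairing a k = 1)) = true := by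
  decide +kernel

theorem F3_tab1_r213 : ∀ a : Fin 240, a.val = 213 → ∀ b : Fin 240, (e8add a b).all (fun k => decide
    ((∀ i : Fin 8, chevE8.cartan i k = chevE8.cartan i a + chevE8.cartan i b) ∧
      chevE8.pairing a b ≠ 0 ∧ chevE8.pairing a k = 1)) = true := by
  decide +kernel

theorem F3_tab1_r214 : ∀ a : Fin 240, a.val = 214 → ∀ b : Fin 240, (e8add a b).all (fun k => decide
    ((∀ i : Fin 8, chevE8.cartan i k = chevE8.cartan i a + chevE8.cartan i b) ∧
      chevE8.pairing a b ≠ 0 ∧ chevE8.pairing a k = 1)) = true := by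
  decide +kernel

theorem F3_tab1_r215 : ∀ a : Fin 240, a.val = 215 → ∀ b : Fin 240, (e8add a b).all (fun k => decide
    ((∀ i : Fin 8, chevE8.cartan i k = chevE8.cartan i a + chevE8.cartan i b) ∧
      chevE8.pairing a b ≠ 0 ∧ chevE8.pairing a k = 1)) = true := by
  decide +kernel

theorem F3_tab1_r216 : ∀ a : Fin 240, a.val = 216 → ∀ b : Fin 240, (e8add a b).all (fun k => decide
    ((∀ i : Fin 8, chevE8.cartan i k = chevE8.cartan i a + chevE8.cartan i b) ∧
      chevE8.pairing a b ≠ 0 ∧ chevE8.pairing a k = 1)) = true := by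
  decide +kernel

theorem F3_tab1_r217 : ∀ a : Fin 240, a.val = 217 → ∀ b : Fin 240, (e8add a b).all (fun k => decide
    ((∀ i : Fin 8, chevE8.cartan i k = chevE8.cartan i a + chevE8.cartan i b) ∧
      chevE8.pairing a b ≠ 0 ∧ chevE8.pairing a k = 1)) = true := by
  decide +kernel

theorem F3_tab1_r218 : ∀ a : Fin 240, a.val = 218 → ∀ b : Fin 240, (e8add a b).all (fun k => decide
    ((∀ i : Fin 8, chevE8.cartan i k = chevE8.cartan i a + chevE8.cartan i b) ∧
      chevE8.pairing a b ≠ 0 ∧ chevE8.pairing a k = 1)) = true := by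
  decide +kernel

theorem F3_tab1_r219 : ∀ a : Fin 240, a.val = 219 → ∀ b : Fin 240, (e8add a b).all (fun k => decide
    ((∀ i : Fin 8, chevE8.cartan i k = chevE8.cartan i a + chevE8.cartan i b) ∧
      chevE8.pairing a b ≠ 0 ∧ chevE8.pairing a k = 1)) = true := by
  decide +kernel

theorem F3_tab1_c4 : ∀ a : Fin 240, 200 ≤ a.val → a.val < 220 → ∀ b : Fin 240, (e8add a b).all (fun k => decide
    ((∀ i : Fin 8, chevE8.cartan i k = chevE8.cartan i a + chevE8.cartan i b) ∧
      chevE8.pairing a b ≠ 0 ∧ chevE8.pairing a k = 1)) = true := by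
  intro a hlo hhi b
  have h240 := a.isLt
  have g200 : a.val ≥ 200 := hlo
  rcases Nat.lt_or_ge a.val 201 with g201 | g201
  · exact F3_tab1_r200 a (Nat.le_antisymm (Nat.le_of_lt_succ g201) g200) b
  rcases Nat.lt_or_ge a.val 202 with g202 | g202
  · exact F3_tab1_r201 a (Nat.le_antisymm (Nat.le_of_lt_succ g202) g201) b
  rcases Nat.lt_or_ge a.val 203 with g203 | g203
  · exact F3_tab1_r202 a (Nat.le_antisymm (Nat.le_of_lt_succ g203) g202) b
  rcases Nat.lt_or_ge a.val 204 with g204 | g204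
  · exact F3_tab1_r203 a (Nat.le_antisymm (Nat.le_of_lt_succ g204) g203) b
  rcases Nat.lt_or_ge a.val 205 with g205 | g205
  · exact F3_tab1_r204 a (Nat.le_antisymm (Nat.le_of_lt_succ g205) g204) b
  rcases Nat.lt_or_ge a.val 206 with g206 | g206
  · exact F3_tab1_r205 a (Nat.le_antisymm (Nat.le_of_lt_succ g206) g205) b
  rcases Nat.lt_or_ge a.val 207 with g207 | g207
  · exact F3_tab1_r206 a (Nat.le_antisymm (Nat.le_of_lt_succ g207) g206) b
  rcases Nat.lt_or_ge a.val 208 with g208 | g208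
  · exact F3_tab1_r207 a (Nat.le_antisymm (Nat.le_of_lt_succ g208) g207) b
  rcases Nat.lt_or_ge a.val 209 with g209 | g209
  · exact F3_tab1_r208 a (Nat.le_antisymm (Nat.le_of_lt_succ g209) g208) b
  rcases Nat.lt_or_ge a.val 210 with g210 | g210
  · exact F3_tab1_r209 a (Nat.le_antisymm (Nat.le_of_lt_succ g210) g209) b
  rcases Nat.lt_or_ge a.val 211 with g211 | g211
  · exact F3_tab1_r210 a (Nat.le_antisymm (Nat.le_of_lt_succ g211) g210) b
  rcases Nat.lt_or_ge a.val 212 with g212 | g212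
  · exact F3_tab1_r211 a (Nat.le_antisymm (Nat.le_of_lt_succ g212) g211) b
  rcases Nat.lt_or_ge a.val 213 with g213 | g213
  · exact F3_tab1_r212 a (Nat.le_antisymm (Nat.le_of_lt_succ g213) g212) b
  rcases Nat.lt_or_ge a.val 214 with g214 | g214
  · exact F3_tab1_r213 a (Nat.le_antisymm (Nat.le_of_lt_succ g214) g213) b
  rcases Nat.lt_or_ge a.val 215 with g215 | g215
  · exact F3_tab1_r214 a (Nat.le_antisymm (Nat.le_of_lt_succ g215) g214) b
  rcases Nat.lt_or_ge a.val 216 with g216 | g216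
  · exact F3_tab1_r215 a (Nat.le_antisymm (Nat.le_of_lt_succ g216) g215) b
  rcases Nat.lt_or_ge a.val 217 with g217 | g217
  · exact F3_tab1_r216 a (Nat.le_antisymm (Nat.le_of_lt_succ g217) g216) b
  rcases Nat.lt_or_ge a.val 218 with g218 | g218
  · exact F3_tab1_r217 a (Nat.le_antisymm (Nat.le_of_lt_succ g218) g217) b
  rcases Nat.lt_or_ge a.val 219 with g219 | g219
  · exact F3_tab1_r218 a (Nat.le_antisymm (Nat.le_of_lt_succ g219) g218) b
  exact F3_tab1_r219 a (Nat.le_antisymm (Nat.le_of_lt_succ hhi) g219) b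

end Cfsg.Agent.Lib.Helper17.E8I
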