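import Cfsg.Agent.Lib.Helper17.E8I.DefsE

set_option autoImplicit false

namespace Cfsg.Agent.Lib.Helper17.E8I

open Cfsg.Lie Cfsg.Agent.Lib.Helper18 Cfsg.Agent.Lib.Helper17 Cfsg.Agent.Lib.Helper36
  Cfsg.Agent.Lib.Helper6 Matrix

theorem F3_tab1_r220 : ∀ a : Fin 240, a.val = 220 → ∀ b : Fin 240, (e8add a b).all (fun k => decide
    ((∀ i : Fin 8, chevE8.cartan i k = chevE8.cartan i a + chevE8.cartan i b) ∧
      chevE8.pairing a b ≠ 0 ∧ chevE8.pairing a k = 1)) = true := by
  decide +kernel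

theorem F3_tab1_r221 : ∀ a : Fin 240, a.val = 221 → ∀ b : Fin 240, (e8add a b).all (fun k => decide
    ((∀ i : Fin 8, chevE8.cartan i k = chevE8.cartan i a + chevE8.cartan i b) ∧
      chevE8.pairing a b ≠ 0 ∧ chevE8.pairing a k = 1)) = true := by
  decide +kernel

theorem F3_tab1_r222 : ∀ a : Fin 240, a.val = 222 → ∀ b : Fin 240, (e8add a b).all (fun k => decide
    ((∀ i : Fin 8, chevE8.cartan i k = chevE8.cartan i a + chevE8.cartan i b) ∧
      chevE8.pairing a b ≠ 0 ∧ chevE8.pairing a k = 1)) = true := by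
  decide +kernel

theorem F3_tab1_r223 : ∀ a : Fin 240, a.val = 223 → ∀ b : Fin 240, (e8add a b).all (fun k => decide
    ((∀ i : Fin 8, chevE8.cartan i k = chevE8.cartan i a + chevE8.cartan i b) ∧
      chevE8.pairing a b ≠ 0 ∧ chevE8.pairing a k = 1)) = true := by
  decide +kernel

theorem F3_tab1_r224 : ∀ a : Fin 240, a.val = 224 → ∀ b : Fin 240, (e8add a b).all (fun k => decide
    ((∀ i : Fin 8, chevE8.cartan i k = chevE8.cartan i a + chevE8.cartan i b) ∧
      chevE8.pairing a b ≠ 0 ∧ chevE8.pairing a k = 1)) = true := by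
  decide +kernel

theorem F3_tab1_r225 : ∀ a : Fin 240, a.val = 225 → ∀ b : Fin 240, (e8add a b).all (fun k => decide
    ((∀ i : Fin 8, chevE8.cartan i k = chevE8.cartan i a + chevE8.cartan i b) ∧
      chevE8.pairing a b ≠ 0 ∧ chevE8.pairing a k = 1)) = true := by
  decide +kernel

theorem F3_tab1_r226 : ∀ a : Fin 240, a.val = 226 → ∀ b : Fin 240, (e8add a b).all (fun k => decide
    ((∀ i : Fin 8, chevE8.cartan i k = chevE8.cartan i a + chevE8.cartan i b) ∧
      chevE8.pairing a b ≠ 0 ∧ chevE8.pairing a k = 1)) = true := by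
  decide +kernel

theorem F3_tab1_r227 : ∀ a : Fin 240, a.val = 227 → ∀ b : Fin 240, (e8add a b).all (fun k => decide
    ((∀ i : Fin 8, chevE8.cartan i k = chevE8.cartan i a + chevE8.cartan i b) ∧
      chevE8.pairing a b ≠ 0 ∧ chevE8.pairing a k = 1)) = true := by
  decide +kernel

theorem F3_tab1_r228 : ∀ a : Fin 240, a.val = 228 → ∀ b : Fin 240, (e8add a b).all (fun k => decide
    ((∀ i : Fin 8, chevE8.cartan i k = chevE8.cartan i a + chevE8.cartan i b) ∧
      chevE8.pairing a b ≠ 0 ∧ chevE8.pairing a k = 1)) = true := by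
  decide +kernel

theorem F3_tab1_r229 : ∀ a : Fin 240, a.val = 229 → ∀ b : Fin 240, (e8add a b).all (fun k => decide
    ((∀ i : Fin 8, chevE8.cartan i k = chevE8.cartan i a + chevE8.cartan i b) ∧
      chevE8.pairing a b ≠ 0 ∧ chevE8.pairing a k = 1)) = true := by
  decide +kernel

theorem F3_tab1_r230 : ∀ a : Fin 240, a.val = 230 → ∀ b : Fin 240, (e8add a b).all (fun k => decide
    ((∀ i : Fin 8, chevE8.cartan i k = chevE8.cartan i a + chevE8.cartan i b) ∧
      chevE8.pairing a b ≠ 0 ∧ chevE8.pairing a k = 1)) = true := by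
  decide +kernel

theorem F3_tab1_r231 : ∀ a : Fin 240, a.val = 231 → ∀ b : Fin 240, (e8add a b).all (fun k => decide
    ((∀ i : Fin 8, chevE8.cartan i k = chevE8.cartan i a + chevE8.cartan i b) ∧
      chevE8.pairing a b ≠ 0 ∧ chevE8.pairing a k = 1)) = true := by
  decide +kernel

theorem F3_tab1_r232 : ∀ a : Fin 240, a.val = 232 → ∀ b : Fin 240, (e8add a b).all (fun k => decide
    ((∀ i : Fin 8, chevE8.cartan i k = chevE8.cartan i a + chevE8.cartan i b) ∧
      chevE8.pairing a b ≠ 0 ∧ chevE8.pairing a k = 1)) = true := by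
  decide +kernel

theorem F3_tab1_r233 : ∀ a : Fin 240, a.val = 233 → ∀ b : Fin 240, (e8add a b).all (fun k => decide
    ((∀ i : Fin 8, chevE8.cartan i k = chevE8.cartan i a + chevE8.cartan i b) ∧
      chevE8.pairing a b ≠ 0 ∧ chevE8.pairing a k = 1)) = true := by
  decide +kernel

theorem F3_tab1_r234 : ∀ a : Fin 240, a.val = 234 → ∀ b : Fin 240, (e8add a b).all (fun k => decide
    ((∀ i : Fin 8, chevE8.cartan i k = chevE8.cartan i a + chevE8.cartan i b) ∧
      chevE8.pairing a b ≠ 0 ∧ chevE8.pairing a k = 1)) = true := by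
  decide +kernel

theorem F3_tab1_r235 : ∀ a : Fin 240, a.val = 235 → ∀ b : Fin 240, (e8add a b).all (fun k => decide
    ((∀ i : Fin 8, chevE8.cartan i k = chevE8.cartan i a + chevE8.cartan i b) ∧
      chevE8.pairing a b ≠ 0 ∧ chevE8.pairing a k = 1)) = true := by
  decide +kernel

theorem F3_tab1_r236 : ∀ a : Fin 240, a.val = 236 → ∀ b : Fin 240, (e8add a b).all (fun k => decide
    ((∀ i : Fin 8, chevE8.cartan i k = chevE8.cartan i a + chevE8.cartan i b) ∧
      chevE8.pairing a b ≠ 0 ∧ chevE8.pairing a k = 1)) = true := by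
  decide +kernel

theorem F3_tab1_r237 : ∀ a : Fin 240, a.val = 237 → ∀ b : Fin 240, (e8add a b).all (fun k => decide
    ((∀ i : Fin 8, chevE8.cartan i k = chevE8.cartan i a + chevE8.cartan i b) ∧
      chevE8.pairing a b ≠ 0 ∧ chevE8.pairing a k = 1)) = true := by
  decide +kernel

theorem F3_tab1_r238 : ∀ a : Fin 240, a.val = 238 → ∀ b : Fin 240, (e8add a b).all (fun k => decide
    ((∀ i : Fin 8, chevE8.cartan i k = chevE8.cartan i a + chevE8.cartan i b) ∧
      chevE8.pairing a b ≠ 0 ∧ chevE8.pairing a k = 1)) = true := by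
  decide +kernel

theorem F3_tab1_r239 : ∀ a : Fin 240, a.val = 239 → ∀ b : Fin 240, (e8add a b).all (fun k => decide
    ((∀ i : Fin 8, chevE8.cartan i k = chevE8.cartan i a + chevE8.cartan i b) ∧
      chevE8.pairing a b ≠ 0 ∧ chevE8.pairing a k = 1)) = true := by
  decide +kernel

theorem F3_tab1_c5 : ∀ a : Fin 240, 220 ≤ a.val → ∀ b : Fin 240, (e8add a b).all (fun k => decide
    ((∀ i : Fin 8, chevE8.cartan i k = chevE8.cartan i a + chevE8.cartan i b) ∧
      chevE8.pairing a b ≠ 0 ∧ chevE8.pairing a k = 1)) = true := by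
  intro a hlo b
  have h240 := a.isLt
  have g220 : a.val ≥ 220 := hlo
  rcases Nat.lt_or_ge a.val 221 with g221 | g221
  · exact F3_tab1_r220 a (Nat.le_antisymm (Nat.le_of_lt_succ g221) g220) b
  rcases Nat.lt_or_ge a.val 222 with g222 | g222
  · exact F3_tab1_r221 a (Nat.le_antisymm (Nat.le_of_lt_succ g222) g221) b
  rcases Nat.lt_or_ge a.val 223 with g223 | g223
  · exact F3_tab1_r222 a (Nat.le_antisymm (Nat.le_of_lt_succ g223) g222) b
  rcases Nat.lt_or_ge a.val 224 with g224 | g224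
  · exact F3_tab1_r223 a (Nat.le_antisymm (Nat.le_of_lt_succ g224) g223) b
  rcases Nat.lt_or_ge a.val 225 with g225 | g225
  · exact F3_tab1_r224 a (Nat.le_antisymm (Nat.le_of_lt_succ g225) g224) b
  rcases Nat.lt_or_ge a.val 226 with g226 | g226
  · exact F3_tab1_r225 a (Nat.le_antisymm (Nat.le_of_lt_succ g226) g225) b
  rcases Nat.lt_or_ge a.val 227 with g227 | g227
  · exact F3_tab1_r226 a (Nat.le_antisymm (Nat.le_of_lt_succ g227) g226) b
  rcases Nat.lt_or_ge a.val 228 with g228 | g228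
  · exact F3_tab1_r227 a (Nat.le_antisymm (Nat.le_of_lt_succ g228) g227) b
  rcases Nat.lt_or_ge a.val 229 with g229 | g229
  · exact F3_tab1_r228 a (Nat.le_antisymm (Nat.le_of_lt_succ g229) g228) b
  rcases Nat.lt_or_ge a.val 230 with g230 | g230
  · exact F3_tab1_r229 a (Nat.le_antisymm (Nat.le_of_lt_succ g230) g229) b
  rcases Nat.lt_or_ge a.val 231 with g231 | g231
  · exact F3_tab1_r230 a (Nat.le_antisymm (Nat.le_of_lt_succ g231) g230) b
  rcases Nat.lt_or_ge a.val 232 with g232 | g232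
  · exact F3_tab1_r231 a (Nat.le_antisymm (Nat.le_of_lt_succ g232) g231) b
  rcases Nat.lt_or_ge a.val 233 with g233 | g233
  · exact F3_tab1_r232 a (Nat.le_antisymm (Nat.le_of_lt_succ g233) g232) b
  rcases Nat.lt_or_ge a.val 234 with g234 | g234
  · exact F3_tab1_r233 a (Nat.le_antisymm (Nat.le_of_lt_succ g234) g233) b
  rcases Nat.lt_or_ge a.val 235 with g235 | g235
  · exact F3_tab1_r234 a (Nat.le_antisymm (Nat.le_of_lt_succ g235) g234) b
  rcases Nat.lt_or_ge a.val 236 with g236 | g236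
  · exact F3_tab1_r235 a (Nat.le_antisymm (Nat.le_of_lt_succ g236) g235) b
  rcases Nat.lt_or_ge a.val 237 with g237 | g237
  · exact F3_tab1_r236 a (Nat.le_antisymm (Nat.le_of_lt_succ g237) g236) b
  rcases Nat.lt_or_ge a.val 238 with g238 | g238
  · exact F3_tab1_r237 a (Nat.le_antisymm (Nat.le_of_lt_succ g238) g237) b
  rcases Nat.lt_or_ge a.val 239 with g239 | g239
  · exact F3_tab1_r238 a (Nat.le_antisymm (Nat.le_of_lt_succ g239) g238) b
  exact F3_tab1_r239 a (Nat.le_antisymm (Nat.le_of_lt_succ h240) g239) b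

end Cfsg.Agent.Lib.Helper17.E8I
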