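import Cfsg.Agent.Lib.Helper17.E8I.F3d

set_option autoImplicit false

namespace Cfsg.Agent.Lib.Helper17.E8I

open Cfsg.Lie Cfsg.Agent.Lib.Helper18 Cfsg.Agent.Lib.Helper17 Cfsg.Agent.Lib.Helper36
  Cfsg.Agent.Lib.Helper6 Matrix

theorem F3_tab2_lo : ∀ r0 : Fin 240, r0.val < 120 → ∀ r : Fin 240, 120 ≤ r0.val → r0 < r →
    chevE8.pairing r0 r = 0 ∨
      (chevE8.pairing r0 r = 1 ∧ e8add r0 (F3_wit r0 r) = some r.val) ∨
      (chevE8.pairing r0 r = -1 ∧ (e8add r0 r).isSome = true) := by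
  decide +kernel

theorem F3_tab2_r120 : ∀ r0 : Fin 240, r0.val = 120 → ∀ r : Fin 240, 120 ≤ r0.val → r0 < r →
    chevE8.pairing r0 r = 0 ∨
      (chevE8.pairing r0 r = 1 ∧ e8add r0 (F3_wit r0 r) = some r.val) ∨
      (chevE8.pairing r0 r = -1 ∧ (e8add r0 r).isSome = true) := by
  decide +kernel

theorem F3_tab2_r121 : ∀ r0 : Fin 240, r0.val = 121 → ∀ r : Fin 240, 120 ≤ r0.val → r0 < r →
    chevE8.pairing r0 r = 0 ∨
      (chevE8.pairing r0 r = 1 ∧ e8add r0 (F3_wit r0 r) = some r.val) ∨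
      (chevE8.pairing r0 r = -1 ∧ (e8add r0 r).isSome = true) := by
  decide +kernel

theorem F3_tab2_r122 : ∀ r0 : Fin 240, r0.val = 122 → ∀ r : Fin 240, 120 ≤ r0.val → r0 < r →
    chevE8.pairing r0 r = 0 ∨
      (chevE8.pairing r0 r = 1 ∧ e8add r0 (F3_wit r0 r) = some r.val) ∨
      (chevE8.pairing r0 r = -1 ∧ (e8add r0 r).isSome = true) := by
  decide +kernel

theorem F3_tab2_r123 : ∀ r0 : Fin 240, r0.val = 123 → ∀ r : Fin 240, 120 ≤ r0.val → r0 < r →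
    chevE8.pairing r0 r = 0 ∨
      (chevE8.pairing r0 r = 1 ∧ e8add r0 (F3_wit r0 r) = some r.val) ∨
      (chevE8.pairing r0 r = -1 ∧ (e8add r0 r).isSome = true) := by
  decide +kernel

theorem F3_tab2_r124 : ∀ r0 : Fin 240, r0.val = 124 → ∀ r : Fin 240, 120 ≤ r0.val → r0 < r →
    chevE8.pairing r0 r = 0 ∨
      (chevE8.pairing r0 r = 1 ∧ e8add r0 (F3_wit r0 r) = some r.val) ∨
      (chevE8.pairing r0 r = -1 ∧ (e8add r0 r).isSome = true) := by
  decide +kernel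

theorem F3_tab2_r125 : ∀ r0 : Fin 240, r0.val = 125 → ∀ r : Fin 240, 120 ≤ r0.val → r0 < r →
    chevE8.pairing r0 r = 0 ∨
      (chevE8.pairing r0 r = 1 ∧ e8add r0 (F3_wit r0 r) = some r.val) ∨
      (chevE8.pairing r0 r = -1 ∧ (e8add r0 r).isSome = true) := by
  decide +kernel

theorem F3_tab2_r126 : ∀ r0 : Fin 240, r0.val = 126 → ∀ r : Fin 240, 120 ≤ r0.val → r0 < r →
    chevE8.pairing r0 r = 0 ∨
      (chevE8.pairing r0 r = 1 ∧ e8add r0 (F3_wit r0 r) = some r.val) ∨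
      (chevE8.pairing r0 r = -1 ∧ (e8add r0 r).isSome = true) := by
  decide +kernel

theorem F3_tab2_r127 : ∀ r0 : Fin 240, r0.val = 127 → ∀ r : Fin 240, 120 ≤ r0.val → r0 < r →
    chevE8.pairing r0 r = 0 ∨
      (chevE8.pairing r0 r = 1 ∧ e8add r0 (F3_wit r0 r) = some r.val) ∨
      (chevE8.pairing r0 r = -1 ∧ (e8add r0 r).isSome = true) := by
  decide +kernel

theorem F3_tab2_r128 : ∀ r0 : Fin 240, r0.val = 128 → ∀ r : Fin 240, 120 ≤ r0.val → r0 < r →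
    chevE8.pairing r0 r = 0 ∨
      (chevE8.pairing r0 r = 1 ∧ e8add r0 (F3_wit r0 r) = some r.val) ∨
      (chevE8.pairing r0 r = -1 ∧ (e8add r0 r).isSome = true) := by
  decide +kernel

theorem F3_tab2_r129 : ∀ r0 : Fin 240, r0.val = 129 → ∀ r : Fin 240, 120 ≤ r0.val → r0 < r →
    chevE8.pairing r0 r = 0 ∨
      (chevE8.pairing r0 r = 1 ∧ e8add r0 (F3_wit r0 r) = some r.val) ∨
      (chevE8.pairing r0 r = -1 ∧ (e8add r0 r).isSome = true) := by
  decide +kernel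

theorem F3_tab2_r130 : ∀ r0 : Fin 240, r0.val = 130 → ∀ r : Fin 240, 120 ≤ r0.val → r0 < r →
    chevE8.pairing r0 r = 0 ∨
      (chevE8.pairing r0 r = 1 ∧ e8add r0 (F3_wit r0 r) = some r.val) ∨
      (chevE8.pairing r0 r = -1 ∧ (e8add r0 r).isSome = true) := by
  decide +kernel

theorem F3_tab2_r131 : ∀ r0 : Fin 240, r0.val = 131 → ∀ r : Fin 240, 120 ≤ r0.val → r0 < r →
    chevE8.pairing r0 r = 0 ∨
      (chevE8.pairing r0 r = 1 ∧ e8add r0 (F3_wit r0 r) = some r.val) ∨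
      (chevE8.pairing r0 r = -1 ∧ (e8add r0 r).isSome = true) := by
  decide +kernel

theorem F3_tab2_r132 : ∀ r0 : Fin 240, r0.val = 132 → ∀ r : Fin 240, 120 ≤ r0.val → r0 < r →
    chevE8.pairing r0 r = 0 ∨
      (chevE8.pairing r0 r = 1 ∧ e8add r0 (F3_wit r0 r) = some r.val) ∨
      (chevE8.pairing r0 r = -1 ∧ (e8add r0 r).isSome = true) := by
  decide +kernel

theorem F3_tab2_r133 : ∀ r0 : Fin 240, r0.val = 133 → ∀ r : Fin 240, 120 ≤ r0.val → r0 < r →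
    chevE8.pairing r0 r = 0 ∨
      (chevE8.pairing r0 r = 1 ∧ e8add r0 (F3_wit r0 r) = some r.val) ∨
      (chevE8.pairing r0 r = -1 ∧ (e8add r0 r).isSome = true) := by
  decide +kernel

theorem F3_tab2_r134 : ∀ r0 : Fin 240, r0.val = 134 → ∀ r : Fin 240, 120 ≤ r0.val → r0 < r →
    chevE8.pairing r0 r = 0 ∨
      (chevE8.pairing r0 r = 1 ∧ e8add r0 (F3_wit r0 r) = some r.val) ∨
      (chevE8.pairing r0 r = -1 ∧ (e8add r0 r).isSome = true) := by
  decide +kernel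

theorem F3_tab2_c0 : ∀ r0 : Fin 240, r0.val < 135 → ∀ r : Fin 240, 120 ≤ r0.val → r0 < r →
    chevE8.pairing r0 r = 0 ∨
      (chevE8.pairing r0 r = 1 ∧ e8add r0 (F3_wit r0 r) = some r.val) ∨
      (chevE8.pairing r0 r = -1 ∧ (e8add r0 r).isSome = true) := by
  intro r0 hhi r
  have h240 := r0.isLt
  rcases Nat.lt_or_ge r0.val 120 with g120 | g120
  · exact F3_tab2_lo r0 g120 r
  rcases Nat.lt_or_ge r0.val 121 with g121 | g121
  · exact F3_tab2_r120 r0 (Nat.le_antisymm (Nat.le_of_lt_succ g121) g120) r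
  rcases Nat.lt_or_ge r0.val 122 with g122 | g122
  · exact F3_tab2_r121 r0 (Nat.le_antisymm (Nat.le_of_lt_succ g122) g121) r
  rcases Nat.lt_or_ge r0.val 123 with g123 | g123
  · exact F3_tab2_r122 r0 (Nat.le_antisymm (Nat.le_of_lt_succ g123) g122) r
  rcases Nat.lt_or_ge r0.val 124 with g124 | g124
  · exact F3_tab2_r123 r0 (Nat.le_antisymm (Nat.le_of_lt_succ g124) g123) r
  rcases Nat.lt_or_ge r0.val 125 with g125 | g125
  · exact F3_tab2_r124 r0 (Nat.le_antisymm (Nat.le_of_lt_succ g125) g124) r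
  rcases Nat.lt_or_ge r0.val 126 with g126 | g126
  · exact F3_tab2_r125 r0 (Nat.le_antisymm (Nat.le_of_lt_succ g126) g125) r
  rcases Nat.lt_or_ge r0.val 127 with g127 | g127
  · exact F3_tab2_r126 r0 (Nat.le_antisymm (Nat.le_of_lt_succ g127) g126) r
  rcases Nat.lt_or_ge r0.val 128 with g128 | g128
  · exact F3_tab2_r127 r0 (Nat.le_antisymm (Nat.le_of_lt_succ g128) g127) r
  rcases Nat.lt_or_ge r0.val 129 with g129 | g129
  · exact F3_tab2_r128 r0 (Nat.le_antisymm (Nat.le_of_lt_succ g129) g128) r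
  rcases Nat.lt_or_ge r0.val 130 with g130 | g130
  · exact F3_tab2_r129 r0 (Nat.le_antisymm (Nat.le_of_lt_succ g130) g129) r
  rcases Nat.lt_or_ge r0.val 131 with g131 | g131
  · exact F3_tab2_r130 r0 (Nat.le_antisymm (Nat.le_of_lt_succ g131) g130) r
  rcases Nat.lt_or_ge r0.val 132 with g132 | g132
  · exact F3_tab2_r131 r0 (Nat.le_antisymm (Nat.le_of_lt_succ g132) g131) r
  rcases Nat.lt_or_ge r0.val 133 with g133 | g133
  · exact F3_tab2_r132 r0 (Nat.le_antisymm (Nat.le_of_lt_succ g133) g132) r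
  rcases Nat.lt_or_ge r0.val 134 with g134 | g134
  · exact F3_tab2_r133 r0 (Nat.le_antisymm (Nat.le_of_lt_succ g134) g133) r
  exact F3_tab2_r134 r0 (Nat.le_antisymm (Nat.le_of_lt_succ hhi) g134) r

end Cfsg.Agent.Lib.Helper17.E8I
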