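import Cfsg.Agent.Lib.Helper17.E8I.F3d

set_option autoImplicit false

namespace Cfsg.Agent.Lib.Helper17.E8I

open Cfsg.Lie Cfsg.Agent.Lib.Helper18 Cfsg.Agent.Lib.Helper17 Cfsg.Agent.Lib.Helper36
  Cfsg.Agent.Lib.Helper6 Matrix

theorem F3_tab2_r135 : ∀ r0 : Fin 240, r0.val = 135 → ∀ r : Fin 240, 120 ≤ r0.val → r0 < r →
    chevE8.pairing r0 r = 0 ∨
      (chevE8.pairing r0 r = 1 ∧ e8add r0 (F3_wit r0 r) = some r.val) ∨
      (chevE8.pairing r0 r = -1 ∧ (e8add r0 r).isSome = true) := by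
  decide +kernel

theorem F3_tab2_r136 : ∀ r0 : Fin 240, r0.val = 136 → ∀ r : Fin 240, 120 ≤ r0.val → r0 < r →
    chevE8.pairing r0 r = 0 ∨
      (chevE8.pairing r0 r = 1 ∧ e8add r0 (F3_wit r0 r) = some r.val) ∨
      (chevE8.pairing r0 r = -1 ∧ (e8add r0 r).isSome = true) := by
  decide +kernel

theorem F3_tab2_r137 : ∀ r0 : Fin 240, r0.val = 137 → ∀ r : Fin 240, 120 ≤ r0.val → r0 < r →
    chevE8.pairing r0 r = 0 ∨
      (chevE8.pairing r0 r = 1 ∧ e8add r0 (F3_wit r0 r) = some r.val) ∨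
      (chevE8.pairing r0 r = -1 ∧ (e8add r0 r).isSome = true) := by
  decide +kernel

theorem F3_tab2_r138 : ∀ r0 : Fin 240, r0.val = 138 → ∀ r : Fin 240, 120 ≤ r0.val → r0 < r →
    chevE8.pairing r0 r = 0 ∨
      (chevE8.pairing r0 r = 1 ∧ e8add r0 (F3_wit r0 r) = some r.val) ∨
      (chevE8.pairing r0 r = -1 ∧ (e8add r0 r).isSome = true) := by
  decide +kernel

theorem F3_tab2_r139 : ∀ r0 : Fin 240, r0.val = 139 → ∀ r : Fin 240, 120 ≤ r0.val → r0 < r →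
    chevE8.pairing r0 r = 0 ∨
      (chevE8.pairing r0 r = 1 ∧ e8add r0 (F3_wit r0 r) = some r.val) ∨
      (chevE8.pairing r0 r = -1 ∧ (e8add r0 r).isSome = true) := by
  decide +kernel

theorem F3_tab2_r140 : ∀ r0 : Fin 240, r0.val = 140 → ∀ r : Fin 240, 120 ≤ r0.val → r0 < r →
    chevE8.pairing r0 r = 0 ∨
      (chevE8.pairing r0 r = 1 ∧ e8add r0 (F3_wit r0 r) = some r.val) ∨
      (chevE8.pairing r0 r = -1 ∧ (e8add r0 r).isSome = true) := by
  decide +kernel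

theorem F3_tab2_r141 : ∀ r0 : Fin 240, r0.val = 141 → ∀ r : Fin 240, 120 ≤ r0.val → r0 < r →
    chevE8.pairing r0 r = 0 ∨
      (chevE8.pairing r0 r = 1 ∧ e8add r0 (F3_wit r0 r) = some r.val) ∨
      (chevE8.pairing r0 r = -1 ∧ (e8add r0 r).isSome = true) := by
  decide +kernel

theorem F3_tab2_r142 : ∀ r0 : Fin 240, r0.val = 142 → ∀ r : Fin 240, 120 ≤ r0.val → r0 < r →
    chevE8.pairing r0 r = 0 ∨
      (chevE8.pairing r0 r = 1 ∧ e8add r0 (F3_wit r0 r) = some r.val) ∨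
      (chevE8.pairing r0 r = -1 ∧ (e8add r0 r).isSome = true) := by
  decide +kernel

theorem F3_tab2_r143 : ∀ r0 : Fin 240, r0.val = 143 → ∀ r : Fin 240, 120 ≤ r0.val → r0 < r →
    chevE8.pairing r0 r = 0 ∨
      (chevE8.pairing r0 r = 1 ∧ e8add r0 (F3_wit r0 r) = some r.val) ∨
      (chevE8.pairing r0 r = -1 ∧ (e8add r0 r).isSome = true) := by
  decide +kernel

theorem F3_tab2_r144 : ∀ r0 : Fin 240, r0.val = 144 → ∀ r : Fin 240, 120 ≤ r0.val → r0 < r →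
    chevE8.pairing r0 r = 0 ∨
      (chevE8.pairing r0 r = 1 ∧ e8add r0 (F3_wit r0 r) = some r.val) ∨
      (chevE8.pairing r0 r = -1 ∧ (e8add r0 r).isSome = true) := by
  decide +kernel

theorem F3_tab2_r145 : ∀ r0 : Fin 240, r0.val = 145 → ∀ r : Fin 240, 120 ≤ r0.val → r0 < r →
    chevE8.pairing r0 r = 0 ∨
      (chevE8.pairing r0 r = 1 ∧ e8add r0 (F3_wit r0 r) = some r.val) ∨
      (chevE8.pairing r0 r = -1 ∧ (e8add r0 r).isSome = true) := by
  decide +kernel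

theorem F3_tab2_r146 : ∀ r0 : Fin 240, r0.val = 146 → ∀ r : Fin 240, 120 ≤ r0.val → r0 < r →
    chevE8.pairing r0 r = 0 ∨
      (chevE8.pairing r0 r = 1 ∧ e8add r0 (F3_wit r0 r) = some r.val) ∨
      (chevE8.pairing r0 r = -1 ∧ (e8add r0 r).isSome = true) := by
  decide +kernel

theorem F3_tab2_r147 : ∀ r0 : Fin 240, r0.val = 147 → ∀ r : Fin 240, 120 ≤ r0.val → r0 < r →
    chevE8.pairing r0 r = 0 ∨
      (chevE8.pairing r0 r = 1 ∧ e8add r0 (F3_wit r0 r) = some r.val) ∨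
      (chevE8.pairing r0 r = -1 ∧ (e8add r0 r).isSome = true) := by
  decide +kernel

theorem F3_tab2_r148 : ∀ r0 : Fin 240, r0.val = 148 → ∀ r : Fin 240, 120 ≤ r0.val → r0 < r →
    chevE8.pairing r0 r = 0 ∨
      (chevE8.pairing r0 r = 1 ∧ e8add r0 (F3_wit r0 r) = some r.val) ∨
      (chevE8.pairing r0 r = -1 ∧ (e8add r0 r).isSome = true) := by
  decide +kernel

theorem F3_tab2_r149 : ∀ r0 : Fin 240, r0.val = 149 → ∀ r : Fin 240, 120 ≤ r0.val → r0 < r →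
    chevE8.pairing r0 r = 0 ∨
      (chevE8.pairing r0 r = 1 ∧ e8add r0 (F3_wit r0 r) = some r.val) ∨
      (chevE8.pairing r0 r = -1 ∧ (e8add r0 r).isSome = true) := by
  decide +kernel

theorem F3_tab2_c1 : ∀ r0 : Fin 240, 135 ≤ r0.val → r0.val < 150 → ∀ r : Fin 240, 120 ≤ r0.val → r0 < r →
    chevE8.pairing r0 r = 0 ∨
      (chevE8.pairing r0 r = 1 ∧ e8add r0 (F3_wit r0 r) = some r.val) ∨
      (chevE8.pairing r0 r = -1 ∧ (e8add r0 r).isSome = true) := by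
  intro r0 hlo hhi r
  have h240 := r0.isLt
  have g135 : r0.val ≥ 135 := hlo
  rcases Nat.lt_or_ge r0.val 136 with g136 | g136
  · exact F3_tab2_r135 r0 (Nat.le_antisymm (Nat.le_of_lt_succ g136) g135) r
  rcases Nat.lt_or_ge r0.val 137 with g137 | g137
  · exact F3_tab2_r136 r0 (Nat.le_antisymm (Nat.le_of_lt_succ g137) g136) r
  rcases Nat.lt_or_ge r0.val 138 with g138 | g138
  · exact F3_tab2_r137 r0 (Nat.le_antisymm (Nat.le_of_lt_succ g138) g137) r
  rcases Nat.lt_or_ge r0.val 139 with g139 | g139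
  · exact F3_tab2_r138 r0 (Nat.le_antisymm (Nat.le_of_lt_succ g139) g138) r
  rcases Nat.lt_or_ge r0.val 140 with g140 | g140
  · exact F3_tab2_r139 r0 (Nat.le_antisymm (Nat.le_of_lt_succ g140) g139) r
  rcases Nat.lt_or_ge r0.val 141 with g141 | g141
  · exact F3_tab2_r140 r0 (Nat.le_antisymm (Nat.le_of_lt_succ g141) g140) r
  rcases Nat.lt_or_ge r0.val 142 with g142 | g142
  · exact F3_tab2_r141 r0 (Nat.le_antisymm (Nat.le_of_lt_succ g142) g141) r
  rcases Nat.lt_or_ge r0.val 143 with g143 | g143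
  · exact F3_tab2_r142 r0 (Nat.le_antisymm (Nat.le_of_lt_succ g143) g142) r
  rcases Nat.lt_or_ge r0.val 144 with g144 | g144
  · exact F3_tab2_r143 r0 (Nat.le_antisymm (Nat.le_of_lt_succ g144) g143) r
  rcases Nat.lt_or_ge r0.val 145 with g145 | g145
  · exact F3_tab2_r144 r0 (Nat.le_antisymm (Nat.le_of_lt_succ g145) g144) r
  rcases Nat.lt_or_ge r0.val 146 with g146 | g146
  · exact F3_tab2_r145 r0 (Nat.le_antisymm (Nat.le_of_lt_succ g146) g145) r
  rcases Nat.lt_or_ge r0.val 147 with g147 | g147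
  · exact F3_tab2_r146 r0 (Nat.le_antisymm (Nat.le_of_lt_succ g147) g146) r
  rcases Nat.lt_or_ge r0.val 148 with g148 | g148
  · exact F3_tab2_r147 r0 (Nat.le_antisymm (Nat.le_of_lt_succ g148) g147) r
  rcases Nat.lt_or_ge r0.val 149 with g149 | g149
  · exact F3_tab2_r148 r0 (Nat.le_antisymm (Nat.le_of_lt_succ g149) g148) r
  exact F3_tab2_r149 r0 (Nat.le_antisymm (Nat.le_of_lt_succ hhi) g149) r

end Cfsg.Agent.Lib.Helper17.E8I
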