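import Cfsg.Agent.Lib.Helper17.E8I.F3d

set_option autoImplicit false

namespace Cfsg.Agent.Lib.Helper17.E8I

open Cfsg.Lie Cfsg.Agent.Lib.Helper18 Cfsg.Agent.Lib.Helper17 Cfsg.Agent.Lib.Helper36
  Cfsg.Agent.Lib.Helper6 Matrix

theorem F3_tab2_r150 : ∀ r0 : Fin 240, r0.val = 150 → ∀ r : Fin 240, 120 ≤ r0.val → r0 < r →
    chevE8.pairing r0 r = 0 ∨
      (chevE8.pairing r0 r = 1 ∧ e8add r0 (F3_wit r0 r) = some r.val) ∨
      (chevE8.pairing r0 r = -1 ∧ (e8add r0 r).isSome = true) := by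
  decide +kernel

theorem F3_tab2_r151 : ∀ r0 : Fin 240, r0.val = 151 → ∀ r : Fin 240, 120 ≤ r0.val → r0 < r →
    chevE8.pairing r0 r = 0 ∨
      (chevE8.pairing r0 r = 1 ∧ e8add r0 (F3_wit r0 r) = some r.val) ∨
      (chevE8.pairing r0 r = -1 ∧ (e8add r0 r).isSome = true) := by
  decide +kernel

theorem F3_tab2_r152 : ∀ r0 : Fin 240, r0.val = 152 → ∀ r : Fin 240, 120 ≤ r0.val → r0 < r →
    chevE8.pairing r0 r = 0 ∨
      (chevE8.pairing r0 r = 1 ∧ e8add r0 (F3_wit r0 r) = some r.val) ∨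
      (chevE8.pairing r0 r = -1 ∧ (e8add r0 r).isSome = true) := by
  decide +kernel

theorem F3_tab2_r153 : ∀ r0 : Fin 240, r0.val = 153 → ∀ r : Fin 240, 120 ≤ r0.val → r0 < r →
    chevE8.pairing r0 r = 0 ∨
      (chevE8.pairing r0 r = 1 ∧ e8add r0 (F3_wit r0 r) = some r.val) ∨
      (chevE8.pairing r0 r = -1 ∧ (e8add r0 r).isSome = true) := by
  decide +kernel

theorem F3_tab2_r154 : ∀ r0 : Fin 240, r0.val = 154 → ∀ r : Fin 240, 120 ≤ r0.val → r0 < r →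
    chevE8.pairing r0 r = 0 ∨
      (chevE8.pairing r0 r = 1 ∧ e8add r0 (F3_wit r0 r) = some r.val) ∨
      (chevE8.pairing r0 r = -1 ∧ (e8add r0 r).isSome = true) := by
  decide +kernel

theorem F3_tab2_r155 : ∀ r0 : Fin 240, r0.val = 155 → ∀ r : Fin 240, 120 ≤ r0.val → r0 < r →
    chevE8.pairing r0 r = 0 ∨
      (chevE8.pairing r0 r = 1 ∧ e8add r0 (F3_wit r0 r) = some r.val) ∨
      (chevE8.pairing r0 r = -1 ∧ (e8add r0 r).isSome = true) := by
  decide +kernel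

theorem F3_tab2_r156 : ∀ r0 : Fin 240, r0.val = 156 → ∀ r : Fin 240, 120 ≤ r0.val → r0 < r →
    chevE8.pairing r0 r = 0 ∨
      (chevE8.pairing r0 r = 1 ∧ e8add r0 (F3_wit r0 r) = some r.val) ∨
      (chevE8.pairing r0 r = -1 ∧ (e8add r0 r).isSome = true) := by
  decide +kernel

theorem F3_tab2_r157 : ∀ r0 : Fin 240, r0.val = 157 → ∀ r : Fin 240, 120 ≤ r0.val → r0 < r →
    chevE8.pairing r0 r = 0 ∨
      (chevE8.pairing r0 r = 1 ∧ e8add r0 (F3_wit r0 r) = some r.val) ∨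
      (chevE8.pairing r0 r = -1 ∧ (e8add r0 r).isSome = true) := by
  decide +kernel

theorem F3_tab2_r158 : ∀ r0 : Fin 240, r0.val = 158 → ∀ r : Fin 240, 120 ≤ r0.val → r0 < r →
    chevE8.pairing r0 r = 0 ∨
      (chevE8.pairing r0 r = 1 ∧ e8add r0 (F3_wit r0 r) = some r.val) ∨
      (chevE8.pairing r0 r = -1 ∧ (e8add r0 r).isSome = true) := by
  decide +kernel

theorem F3_tab2_r159 : ∀ r0 : Fin 240, r0.val = 159 → ∀ r : Fin 240, 120 ≤ r0.val → r0 < r →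
    chevE8.pairing r0 r = 0 ∨
      (chevE8.pairing r0 r = 1 ∧ e8add r0 (F3_wit r0 r) = some r.val) ∨
      (chevE8.pairing r0 r = -1 ∧ (e8add r0 r).isSome = true) := by
  decide +kernel

theorem F3_tab2_r160 : ∀ r0 : Fin 240, r0.val = 160 → ∀ r : Fin 240, 120 ≤ r0.val → r0 < r →
    chevE8.pairing r0 r = 0 ∨
      (chevE8.pairing r0 r = 1 ∧ e8add r0 (F3_wit r0 r) = some r.val) ∨
      (chevE8.pairing r0 r = -1 ∧ (e8add r0 r).isSome = true) := by
  decide +kernel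

theorem F3_tab2_r161 : ∀ r0 : Fin 240, r0.val = 161 → ∀ r : Fin 240, 120 ≤ r0.val → r0 < r →
    chevE8.pairing r0 r = 0 ∨
      (chevE8.pairing r0 r = 1 ∧ e8add r0 (F3_wit r0 r) = some r.val) ∨
      (chevE8.pairing r0 r = -1 ∧ (e8add r0 r).isSome = true) := by
  decide +kernel

theorem F3_tab2_r162 : ∀ r0 : Fin 240, r0.val = 162 → ∀ r : Fin 240, 120 ≤ r0.val → r0 < r →
    chevE8.pairing r0 r = 0 ∨
      (chevE8.pairing r0 r = 1 ∧ e8add r0 (F3_wit r0 r) = some r.val) ∨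
      (chevE8.pairing r0 r = -1 ∧ (e8add r0 r).isSome = true) := by
  decide +kernel

theorem F3_tab2_r163 : ∀ r0 : Fin 240, r0.val = 163 → ∀ r : Fin 240, 120 ≤ r0.val → r0 < r →
    chevE8.pairing r0 r = 0 ∨
      (chevE8.pairing r0 r = 1 ∧ e8add r0 (F3_wit r0 r) = some r.val) ∨
      (chevE8.pairing r0 r = -1 ∧ (e8add r0 r).isSome = true) := by
  decide +kernel

theorem F3_tab2_r164 : ∀ r0 : Fin 240, r0.val = 164 → ∀ r : Fin 240, 120 ≤ r0.val → r0 < r →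
    chevE8.pairing r0 r = 0 ∨
      (chevE8.pairing r0 r = 1 ∧ e8add r0 (F3_wit r0 r) = some r.val) ∨
      (chevE8.pairing r0 r = -1 ∧ (e8add r0 r).isSome = true) := by
  decide +kernel

theorem F3_tab2_r165 : ∀ r0 : Fin 240, r0.val = 165 → ∀ r : Fin 240, 120 ≤ r0.val → r0 < r →
    chevE8.pairing r0 r = 0 ∨
      (chevE8.pairing r0 r = 1 ∧ e8add r0 (F3_wit r0 r) = some r.val) ∨
      (chevE8.pairing r0 r = -1 ∧ (e8add r0 r).isSome = true) := by
  decide +kernel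

theorem F3_tab2_r166 : ∀ r0 : Fin 240, r0.val = 166 → ∀ r : Fin 240, 120 ≤ r0.val → r0 < r →
    chevE8.pairing r0 r = 0 ∨
      (chevE8.pairing r0 r = 1 ∧ e8add r0 (F3_wit r0 r) = some r.val) ∨
      (chevE8.pairing r0 r = -1 ∧ (e8add r0 r).isSome = true) := by
  decide +kernel

theorem F3_tab2_r167 : ∀ r0 : Fin 240, r0.val = 167 → ∀ r : Fin 240, 120 ≤ r0.val → r0 < r →
    chevE8.pairing r0 r = 0 ∨
      (chevE8.pairing r0 r = 1 ∧ e8add r0 (F3_wit r0 r) = some r.val) ∨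
      (chevE8.pairing r0 r = -1 ∧ (e8add r0 r).isSome = true) := by
  decide +kernel

theorem F3_tab2_r168 : ∀ r0 : Fin 240, r0.val = 168 → ∀ r : Fin 240, 120 ≤ r0.val → r0 < r →
    chevE8.pairing r0 r = 0 ∨
      (chevE8.pairing r0 r = 1 ∧ e8add r0 (F3_wit r0 r) = some r.val) ∨
      (chevE8.pairing r0 r = -1 ∧ (e8add r0 r).isSome = true) := by
  decide +kernel

theorem F3_tab2_r169 : ∀ r0 : Fin 240, r0.val = 169 → ∀ r : Fin 240, 120 ≤ r0.val → r0 < r →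
    chevE8.pairing r0 r = 0 ∨
      (chevE8.pairing r0 r = 1 ∧ e8add r0 (F3_wit r0 r) = some r.val) ∨
      (chevE8.pairing r0 r = -1 ∧ (e8add r0 r).isSome = true) := by
  decide +kernel

theorem F3_tab2_c2 : ∀ r0 : Fin 240, 150 ≤ r0.val → r0.val < 170 → ∀ r : Fin 240, 120 ≤ r0.val → r0 < r →
    chevE8.pairing r0 r = 0 ∨
      (chevE8.pairing r0 r = 1 ∧ e8add r0 (F3_wit r0 r) = some r.val) ∨
      (chevE8.pairing r0 r = -1 ∧ (e8add r0 r).isSome = true) := by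
  intro r0 hlo hhi r
  have h240 := r0.isLt
  have g150 : r0.val ≥ 150 := hlo
  rcases Nat.lt_or_ge r0.val 151 with g151 | g151
  · exact F3_tab2_r150 r0 (Nat.le_antisymm (Nat.le_of_lt_succ g151) g150) r
  rcases Nat.lt_or_ge r0.val 152 with g152 | g152
  · exact F3_tab2_r151 r0 (Nat.le_antisymm (Nat.le_of_lt_succ g152) g151) r
  rcases Nat.lt_or_ge r0.val 153 with g153 | g153
  · exact F3_tab2_r152 r0 (Nat.le_antisymm (Nat.le_of_lt_succ g153) g152) r
  rcases Nat.lt_or_ge r0.val 154 with g154 | g154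
  · exact F3_tab2_r153 r0 (Nat.le_antisymm (Nat.le_of_lt_succ g154) g153) r
  rcases Nat.lt_or_ge r0.val 155 with g155 | g155
  · exact F3_tab2_r154 r0 (Nat.le_antisymm (Nat.le_of_lt_succ g155) g154) r
  rcases Nat.lt_or_ge r0.val 156 with g156 | g156
  · exact F3_tab2_r155 r0 (Nat.le_antisymm (Nat.le_of_lt_succ g156) g155) r
  rcases Nat.lt_or_ge r0.val 157 with g157 | g157
  · exact F3_tab2_r156 r0 (Nat.le_antisymm (Nat.le_of_lt_succ g157) g156) r
  rcases Nat.lt_or_ge r0.val 158 with g158 | g158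
  · exact F3_tab2_r157 r0 (Nat.le_antisymm (Nat.le_of_lt_succ g158) g157) r
  rcases Nat.lt_or_ge r0.val 159 with g159 | g159
  · exact F3_tab2_r158 r0 (Nat.le_antisymm (Nat.le_of_lt_succ g159) g158) r
  rcases Nat.lt_or_ge r0.val 160 with g160 | g160
  · exact F3_tab2_r159 r0 (Nat.le_antisymm (Nat.le_of_lt_succ g160) g159) r
  rcases Nat.lt_or_ge r0.val 161 with g161 | g161
  · exact F3_tab2_r160 r0 (Nat.le_antisymm (Nat.le_of_lt_succ g161) g160) r
  rcases Nat.lt_or_ge r0.val 162 with g162 | g162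
  · exact F3_tab2_r161 r0 (Nat.le_antisymm (Nat.le_of_lt_succ g162) g161) r
  rcases Nat.lt_or_ge r0.val 163 with g163 | g163
  · exact F3_tab2_r162 r0 (Nat.le_antisymm (Nat.le_of_lt_succ g163) g162) r
  rcases Nat.lt_or_ge r0.val 164 with g164 | g164
  · exact F3_tab2_r163 r0 (Nat.le_antisymm (Nat.le_of_lt_succ g164) g163) r
  rcases Nat.lt_or_ge r0.val 165 with g165 | g165
  · exact F3_tab2_r164 r0 (Nat.le_antisymm (Nat.le_of_lt_succ g165) g164) r
  rcases Nat.lt_or_ge r0.val 166 with g166 | g166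
  · exact F3_tab2_r165 r0 (Nat.le_antisymm (Nat.le_of_lt_succ g166) g165) r
  rcases Nat.lt_or_ge r0.val 167 with g167 | g167
  · exact F3_tab2_r166 r0 (Nat.le_antisymm (Nat.le_of_lt_succ g167) g166) r
  rcases Nat.lt_or_ge r0.val 168 with g168 | g168
  · exact F3_tab2_r167 r0 (Nat.le_antisymm (Nat.le_of_lt_succ g168) g167) r
  rcases Nat.lt_or_ge r0.val 169 with g169 | g169
  · exact F3_tab2_r168 r0 (Nat.le_antisymm (Nat.le_of_lt_succ g169) g168) r
  exact F3_tab2_r169 r0 (Nat.le_antisymm (Nat.le_of_lt_succ hhi) g169) r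

end Cfsg.Agent.Lib.Helper17.E8I
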