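import Cfsg.Agent.Lib.Helper17.E8I.F3d

set_option autoImplicit false

namespace Cfsg.Agent.Lib.Helper17.E8I

open Cfsg.Lie Cfsg.Agent.Lib.Helper18 Cfsg.Agent.Lib.Helper17 Cfsg.Agent.Lib.Helper36
  Cfsg.Agent.Lib.Helper6 Matrix

theorem F3_tab2_r170 : ∀ r0 : Fin 240, r0.val = 170 → ∀ r : Fin 240, 120 ≤ r0.val → r0 < r →
    chevE8.pairing r0 r = 0 ∨
      (chevE8.pairing r0 r = 1 ∧ e8add r0 (F3_wit r0 r) = some r.val) ∨
      (chevE8.pairing r0 r = -1 ∧ (e8add r0 r).isSome = true) := by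
  decide +kernel

theorem F3_tab2_r171 : ∀ r0 : Fin 240, r0.val = 171 → ∀ r : Fin 240, 120 ≤ r0.val → r0 < r →
    chevE8.pairing r0 r = 0 ∨
      (chevE8.pairing r0 r = 1 ∧ e8add r0 (F3_wit r0 r) = some r.val) ∨
      (chevE8.pairing r0 r = -1 ∧ (e8add r0 r).isSome = true) := by
  decide +kernel

theorem F3_tab2_r172 : ∀ r0 : Fin 240, r0.val = 172 → ∀ r : Fin 240, 120 ≤ r0.val → r0 < r →
    chevE8.pairing r0 r = 0 ∨
      (chevE8.pairing r0 r = 1 ∧ e8add r0 (F3_wit r0 r) = some r.val) ∨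
      (chevE8.pairing r0 r = -1 ∧ (e8add r0 r).isSome = true) := by
  decide +kernel

theorem F3_tab2_r173 : ∀ r0 : Fin 240, r0.val = 173 → ∀ r : Fin 240, 120 ≤ r0.val → r0 < r →
    chevE8.pairing r0 r = 0 ∨
      (chevE8.pairing r0 r = 1 ∧ e8add r0 (F3_wit r0 r) = some r.val) ∨
      (chevE8.pairing r0 r = -1 ∧ (e8add r0 r).isSome = true) := by
  decide +kernel

theorem F3_tab2_r174 : ∀ r0 : Fin 240, r0.val = 174 → ∀ r : Fin 240, 120 ≤ r0.val → r0 < r →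
    chevE8.pairing r0 r = 0 ∨
      (chevE8.pairing r0 r = 1 ∧ e8add r0 (F3_wit r0 r) = some r.val) ∨
      (chevE8.pairing r0 r = -1 ∧ (e8add r0 r).isSome = true) := by
  decide +kernel

theorem F3_tab2_r175 : ∀ r0 : Fin 240, r0.val = 175 → ∀ r : Fin 240, 120 ≤ r0.val → r0 < r →
    chevE8.pairing r0 r = 0 ∨
      (chevE8.pairing r0 r = 1 ∧ e8add r0 (F3_wit r0 r) = some r.val) ∨
      (chevE8.pairing r0 r = -1 ∧ (e8add r0 r).isSome = true) := by
  decide +kernel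

theorem F3_tab2_r176 : ∀ r0 : Fin 240, r0.val = 176 → ∀ r : Fin 240, 120 ≤ r0.val → r0 < r →
    chevE8.pairing r0 r = 0 ∨
      (chevE8.pairing r0 r = 1 ∧ e8add r0 (F3_wit r0 r) = some r.val) ∨
      (chevE8.pairing r0 r = -1 ∧ (e8add r0 r).isSome = true) := by
  decide +kernel

theorem F3_tab2_r177 : ∀ r0 : Fin 240, r0.val = 177 → ∀ r : Fin 240, 120 ≤ r0.val → r0 < r →
    chevE8.pairing r0 r = 0 ∨
      (chevE8.pairing r0 r = 1 ∧ e8add r0 (F3_wit r0 r) = some r.val) ∨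
      (chevE8.pairing r0 r = -1 ∧ (e8add r0 r).isSome = true) := by
  decide +kernel

theorem F3_tab2_r178 : ∀ r0 : Fin 240, r0.val = 178 → ∀ r : Fin 240, 120 ≤ r0.val → r0 < r →
    chevE8.pairing r0 r = 0 ∨
      (chevE8.pairing r0 r = 1 ∧ e8add r0 (F3_wit r0 r) = some r.val) ∨
      (chevE8.pairing r0 r = -1 ∧ (e8add r0 r).isSome = true) := by
  decide +kernel

theorem F3_tab2_r179 : ∀ r0 : Fin 240, r0.val = 179 → ∀ r : Fin 240, 120 ≤ r0.val → r0 < r →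
    chevE8.pairing r0 r = 0 ∨
      (chevE8.pairing r0 r = 1 ∧ e8add r0 (F3_wit r0 r) = some r.val) ∨
      (chevE8.pairing r0 r = -1 ∧ (e8add r0 r).isSome = true) := by
  decide +kernel

theorem F3_tab2_r180 : ∀ r0 : Fin 240, r0.val = 180 → ∀ r : Fin 240, 120 ≤ r0.val → r0 < r →
    chevE8.pairing r0 r = 0 ∨
      (chevE8.pairing r0 r = 1 ∧ e8add r0 (F3_wit r0 r) = some r.val) ∨
      (chevE8.pairing r0 r = -1 ∧ (e8add r0 r).isSome = true) := by
  decide +kernel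

theorem F3_tab2_r181 : ∀ r0 : Fin 240, r0.val = 181 → ∀ r : Fin 240, 120 ≤ r0.val → r0 < r →
    chevE8.pairing r0 r = 0 ∨
      (chevE8.pairing r0 r = 1 ∧ e8add r0 (F3_wit r0 r) = some r.val) ∨
      (chevE8.pairing r0 r = -1 ∧ (e8add r0 r).isSome = true) := by
  decide +kernel

theorem F3_tab2_r182 : ∀ r0 : Fin 240, r0.val = 182 → ∀ r : Fin 240, 120 ≤ r0.val → r0 < r →
    chevE8.pairing r0 r = 0 ∨
      (chevE8.pairing r0 r = 1 ∧ e8add r0 (F3_wit r0 r) = some r.val) ∨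
      (chevE8.pairing r0 r = -1 ∧ (e8add r0 r).isSome = true) := by
  decide +kernel

theorem F3_tab2_r183 : ∀ r0 : Fin 240, r0.val = 183 → ∀ r : Fin 240, 120 ≤ r0.val → r0 < r →
    chevE8.pairing r0 r = 0 ∨
      (chevE8.pairing r0 r = 1 ∧ e8add r0 (F3_wit r0 r) = some r.val) ∨
      (chevE8.pairing r0 r = -1 ∧ (e8add r0 r).isSome = true) := by
  decide +kernel

theorem F3_tab2_r184 : ∀ r0 : Fin 240, r0.val = 184 → ∀ r : Fin 240, 120 ≤ r0.val → r0 < r →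
    chevE8.pairing r0 r = 0 ∨
      (chevE8.pairing r0 r = 1 ∧ e8add r0 (F3_wit r0 r) = some r.val) ∨
      (chevE8.pairing r0 r = -1 ∧ (e8add r0 r).isSome = true) := by
  decide +kernel

theorem F3_tab2_r185 : ∀ r0 : Fin 240, r0.val = 185 → ∀ r : Fin 240, 120 ≤ r0.val → r0 < r →
    chevE8.pairing r0 r = 0 ∨
      (chevE8.pairing r0 r = 1 ∧ e8add r0 (F3_wit r0 r) = some r.val) ∨
      (chevE8.pairing r0 r = -1 ∧ (e8add r0 r).isSome = true) := by
  decide +kernel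

theorem F3_tab2_r186 : ∀ r0 : Fin 240, r0.val = 186 → ∀ r : Fin 240, 120 ≤ r0.val → r0 < r →
    chevE8.pairing r0 r = 0 ∨
      (chevE8.pairing r0 r = 1 ∧ e8add r0 (F3_wit r0 r) = some r.val) ∨
      (chevE8.pairing r0 r = -1 ∧ (e8add r0 r).isSome = true) := by
  decide +kernel

theorem F3_tab2_r187 : ∀ r0 : Fin 240, r0.val = 187 → ∀ r : Fin 240, 120 ≤ r0.val → r0 < r →
    chevE8.pairing r0 r = 0 ∨
      (chevE8.pairing r0 r = 1 ∧ e8add r0 (F3_wit r0 r) = some r.val) ∨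
      (chevE8.pairing r0 r = -1 ∧ (e8add r0 r).isSome = true) := by
  decide +kernel

theorem F3_tab2_r188 : ∀ r0 : Fin 240, r0.val = 188 → ∀ r : Fin 240, 120 ≤ r0.val → r0 < r →
    chevE8.pairing r0 r = 0 ∨
      (chevE8.pairing r0 r = 1 ∧ e8add r0 (F3_wit r0 r) = some r.val) ∨
      (chevE8.pairing r0 r = -1 ∧ (e8add r0 r).isSome = true) := by
  decide +kernel

theorem F3_tab2_r189 : ∀ r0 : Fin 240, r0.val = 189 → ∀ r : Fin 240, 120 ≤ r0.val → r0 < r →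
    chevE8.pairing r0 r = 0 ∨
      (chevE8.pairing r0 r = 1 ∧ e8add r0 (F3_wit r0 r) = some r.val) ∨
      (chevE8.pairing r0 r = -1 ∧ (e8add r0 r).isSome = true) := by
  decide +kernel

theorem F3_tab2_r190 : ∀ r0 : Fin 240, r0.val = 190 → ∀ r : Fin 240, 120 ≤ r0.val → r0 < r →
    chevE8.pairing r0 r = 0 ∨
      (chevE8.pairing r0 r = 1 ∧ e8add r0 (F3_wit r0 r) = some r.val) ∨
      (chevE8.pairing r0 r = -1 ∧ (e8add r0 r).isSome = true) := by
  decide +kernel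

theorem F3_tab2_r191 : ∀ r0 : Fin 240, r0.val = 191 → ∀ r : Fin 240, 120 ≤ r0.val → r0 < r →
    chevE8.pairing r0 r = 0 ∨
      (chevE8.pairing r0 r = 1 ∧ e8add r0 (F3_wit r0 r) = some r.val) ∨
      (chevE8.pairing r0 r = -1 ∧ (e8add r0 r).isSome = true) := by
  decide +kernel

theorem F3_tab2_r192 : ∀ r0 : Fin 240, r0.val = 192 → ∀ r : Fin 240, 120 ≤ r0.val → r0 < r →
    chevE8.pairing r0 r = 0 ∨
      (chevE8.pairing r0 r = 1 ∧ e8add r0 (F3_wit r0 r) = some r.val) ∨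
      (chevE8.pairing r0 r = -1 ∧ (e8add r0 r).isSome = true) := by
  decide +kernel

theorem F3_tab2_r193 : ∀ r0 : Fin 240, r0.val = 193 → ∀ r : Fin 240, 120 ≤ r0.val → r0 < r →
    chevE8.pairing r0 r = 0 ∨
      (chevE8.pairing r0 r = 1 ∧ e8add r0 (F3_wit r0 r) = some r.val) ∨
      (chevE8.pairing r0 r = -1 ∧ (e8add r0 r).isSome = true) := by
  decide +kernel

theorem F3_tab2_r194 : ∀ r0 : Fin 240, r0.val = 194 → ∀ r : Fin 240, 120 ≤ r0.val → r0 < r →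
    chevE8.pairing r0 r = 0 ∨
      (chevE8.pairing r0 r = 1 ∧ e8add r0 (F3_wit r0 r) = some r.val) ∨
      (chevE8.pairing r0 r = -1 ∧ (e8add r0 r).isSome = true) := by
  decide +kernel

theorem F3_tab2_c3 : ∀ r0 : Fin 240, 170 ≤ r0.val → r0.val < 195 → ∀ r : Fin 240, 120 ≤ r0.val → r0 < r →
    chevE8.pairing r0 r = 0 ∨
      (chevE8.pairing r0 r = 1 ∧ e8add r0 (F3_wit r0 r) = some r.val) ∨
      (chevE8.pairing r0 r = -1 ∧ (e8add r0 r).isSome = true) := by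
  intro r0 hlo hhi r
  have h240 := r0.isLt
  have g170 : r0.val ≥ 170 := hlo
  rcases Nat.lt_or_ge r0.val 171 with g171 | g171
  · exact F3_tab2_r170 r0 (Nat.le_antisymm (Nat.le_of_lt_succ g171) g170) r
  rcases Nat.lt_or_ge r0.val 172 with g172 | g172
  · exact F3_tab2_r171 r0 (Nat.le_antisymm (Nat.le_of_lt_succ g172) g171) r
  rcases Nat.lt_or_ge r0.val 173 with g173 | g173
  · exact F3_tab2_r172 r0 (Nat.le_antisymm (Nat.le_of_lt_succ g173) g172) r
  rcases Nat.lt_or_ge r0.val 174 with g174 | g174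
  · exact F3_tab2_r173 r0 (Nat.le_antisymm (Nat.le_of_lt_succ g174) g173) r
  rcases Nat.lt_or_ge r0.val 175 with g175 | g175
  · exact F3_tab2_r174 r0 (Nat.le_antisymm (Nat.le_of_lt_succ g175) g174) r
  rcases Nat.lt_or_ge r0.val 176 with g176 | g176
  · exact F3_tab2_r175 r0 (Nat.le_antisymm (Nat.le_of_lt_succ g176) g175) r
  rcases Nat.lt_or_ge r0.val 177 with g177 | g177
  · exact F3_tab2_r176 r0 (Nat.le_antisymm (Nat.le_of_lt_succ g177) g176) r
  rcases Nat.lt_or_ge r0.val 178 with g178 | g178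
  · exact F3_tab2_r177 r0 (Nat.le_antisymm (Nat.le_of_lt_succ g178) g177) r
  rcases Nat.lt_or_ge r0.val 179 with g179 | g179
  · exact F3_tab2_r178 r0 (Nat.le_antisymm (Nat.le_of_lt_succ g179) g178) r
  rcases Nat.lt_or_ge r0.val 180 with g180 | g180
  · exact F3_tab2_r179 r0 (Nat.le_antisymm (Nat.le_of_lt_succ g180) g179) r
  rcases Nat.lt_or_ge r0.val 181 with g181 | g181
  · exact F3_tab2_r180 r0 (Nat.le_antisymm (Nat.le_of_lt_succ g181) g180) r
  rcases Nat.lt_or_ge r0.val 182 with g182 | g182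
  · exact F3_tab2_r181 r0 (Nat.le_antisymm (Nat.le_of_lt_succ g182) g181) r
  rcases Nat.lt_or_ge r0.val 183 with g183 | g183
  · exact F3_tab2_r182 r0 (Nat.le_antisymm (Nat.le_of_lt_succ g183) g182) r
  rcases Nat.lt_or_ge r0.val 184 with g184 | g184
  · exact F3_tab2_r183 r0 (Nat.le_antisymm (Nat.le_of_lt_succ g184) g183) r
  rcases Nat.lt_or_ge r0.val 185 with g185 | g185
  · exact F3_tab2_r184 r0 (Nat.le_antisymm (Nat.le_of_lt_succ g185) g184) r
  rcases Nat.lt_or_ge r0.val 186 with g186 | g186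
  · exact F3_tab2_r185 r0 (Nat.le_antisymm (Nat.le_of_lt_succ g186) g185) r
  rcases Nat.lt_or_ge r0.val 187 with g187 | g187
  · exact F3_tab2_r186 r0 (Nat.le_antisymm (Nat.le_of_lt_succ g187) g186) r
  rcases Nat.lt_or_ge r0.val 188 with g188 | g188
  · exact F3_tab2_r187 r0 (Nat.le_antisymm (Nat.le_of_lt_succ g188) g187) r
  rcases Nat.lt_or_ge r0.val 189 with g189 | g189
  · exact F3_tab2_r188 r0 (Nat.le_antisymm (Nat.le_of_lt_succ g189) g188) r
  rcases Nat.lt_or_ge r0.val 190 with g190 | g190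
  · exact F3_tab2_r189 r0 (Nat.le_antisymm (Nat.le_of_lt_succ g190) g189) r
  rcases Nat.lt_or_ge r0.val 191 with g191 | g191
  · exact F3_tab2_r190 r0 (Nat.le_antisymm (Nat.le_of_lt_succ g191) g190) r
  rcases Nat.lt_or_ge r0.val 192 with g192 | g192
  · exact F3_tab2_r191 r0 (Nat.le_antisymm (Nat.le_of_lt_succ g192) g191) r
  rcases Nat.lt_or_ge r0.val 193 with g193 | g193
  · exact F3_tab2_r192 r0 (Nat.le_antisymm (Nat.le_of_lt_succ g193) g192) r
  rcases Nat.lt_or_ge r0.val 194 with g194 | g194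
  · exact F3_tab2_r193 r0 (Nat.le_antisymm (Nat.le_of_lt_succ g194) g193) r
  exact F3_tab2_r194 r0 (Nat.le_antisymm (Nat.le_of_lt_succ hhi) g194) r

end Cfsg.Agent.Lib.Helper17.E8I
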