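import Cfsg.Agent.Lib.Helper17.E8I.F3d

set_option autoImplicit false

namespace Cfsg.Agent.Lib.Helper17.E8I

open Cfsg.Lie Cfsg.Agent.Lib.Helper18 Cfsg.Agent.Lib.Helper17 Cfsg.Agent.Lib.Helper36
  Cfsg.Agent.Lib.Helper6 Matrix

theorem F3_tab2_r195 : ∀ r0 : Fin 240, r0.val = 195 → ∀ r : Fin 240, 120 ≤ r0.val → r0 < r →
    chevE8.pairing r0 r = 0 ∨
      (chevE8.pairing r0 r = 1 ∧ e8add r0 (F3_wit r0 r) = some r.val) ∨
      (chevE8.pairing r0 r = -1 ∧ (e8add r0 r).isSome = true) := by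
  decide +kernel

theorem F3_tab2_r196 : ∀ r0 : Fin 240, r0.val = 196 → ∀ r : Fin 240, 120 ≤ r0.val → r0 < r →
    chevE8.pairing r0 r = 0 ∨
      (chevE8.pairing r0 r = 1 ∧ e8add r0 (F3_wit r0 r) = some r.val) ∨
      (chevE8.pairing r0 r = -1 ∧ (e8add r0 r).isSome = true) := by
  decide +kernel

theorem F3_tab2_r197 : ∀ r0 : Fin 240, r0.val = 197 → ∀ r : Fin 240, 120 ≤ r0.val → r0 < r →
    chevE8.pairing r0 r = 0 ∨
      (chevE8.pairing r0 r = 1 ∧ e8add r0 (F3_wit r0 r) = some r.val) ∨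
      (chevE8.pairing r0 r = -1 ∧ (e8add r0 r).isSome = true) := by
  decide +kernel

theorem F3_tab2_r198 : ∀ r0 : Fin 240, r0.val = 198 → ∀ r : Fin 240, 120 ≤ r0.val → r0 < r →
    chevE8.pairing r0 r = 0 ∨
      (chevE8.pairing r0 r = 1 ∧ e8add r0 (F3_wit r0 r) = some r.val) ∨
      (chevE8.pairing r0 r = -1 ∧ (e8add r0 r).isSome = true) := by
  decide +kernel

theorem F3_tab2_r199 : ∀ r0 : Fin 240, r0.val = 199 → ∀ r : Fin 240, 120 ≤ r0.val → r0 < r →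
    chevE8.pairing r0 r = 0 ∨
      (chevE8.pairing r0 r = 1 ∧ e8add r0 (F3_wit r0 r) = some r.val) ∨
      (chevE8.pairing r0 r = -1 ∧ (e8add r0 r).isSome = true) := by
  decide +kernel

theorem F3_tab2_r200 : ∀ r0 : Fin 240, r0.val = 200 → ∀ r : Fin 240, 120 ≤ r0.val → r0 < r →
    chevE8.pairing r0 r = 0 ∨
      (chevE8.pairing r0 r = 1 ∧ e8add r0 (F3_wit r0 r) = some r.val) ∨
      (chevE8.pairing r0 r = -1 ∧ (e8add r0 r).isSome = true) := by
  decide +kernel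

theorem F3_tab2_r201 : ∀ r0 : Fin 240, r0.val = 201 → ∀ r : Fin 240, 120 ≤ r0.val → r0 < r →
    chevE8.pairing r0 r = 0 ∨
      (chevE8.pairing r0 r = 1 ∧ e8add r0 (F3_wit r0 r) = some r.val) ∨
      (chevE8.pairing r0 r = -1 ∧ (e8add r0 r).isSome = true) := by
  decide +kernel

theorem F3_tab2_r202 : ∀ r0 : Fin 240, r0.val = 202 → ∀ r : Fin 240, 120 ≤ r0.val → r0 < r →
    chevE8.pairing r0 r = 0 ∨
      (chevE8.pairing r0 r = 1 ∧ e8add r0 (F3_wit r0 r) = some r.val) ∨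
      (chevE8.pairing r0 r = -1 ∧ (e8add r0 r).isSome = true) := by
  decide +kernel

theorem F3_tab2_r203 : ∀ r0 : Fin 240, r0.val = 203 → ∀ r : Fin 240, 120 ≤ r0.val → r0 < r →
    chevE8.pairing r0 r = 0 ∨
      (chevE8.pairing r0 r = 1 ∧ e8add r0 (F3_wit r0 r) = some r.val) ∨
      (chevE8.pairing r0 r = -1 ∧ (e8add r0 r).isSome = true) := by
  decide +kernel

theorem F3_tab2_r204 : ∀ r0 : Fin 240, r0.val = 204 → ∀ r : Fin 240, 120 ≤ r0.val → r0 < r →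
    chevE8.pairing r0 r = 0 ∨
      (chevE8.pairing r0 r = 1 ∧ e8add r0 (F3_wit r0 r) = some r.val) ∨
      (chevE8.pairing r0 r = -1 ∧ (e8add r0 r).isSome = true) := by
  decide +kernel

theorem F3_tab2_r205 : ∀ r0 : Fin 240, r0.val = 205 → ∀ r : Fin 240, 120 ≤ r0.val → r0 < r →
    chevE8.pairing r0 r = 0 ∨
      (chevE8.pairing r0 r = 1 ∧ e8add r0 (F3_wit r0 r) = some r.val) ∨
      (chevE8.pairing r0 r = -1 ∧ (e8add r0 r).isSome = true) := by
  decide +kernel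

theorem F3_tab2_r206 : ∀ r0 : Fin 240, r0.val = 206 → ∀ r : Fin 240, 120 ≤ r0.val → r0 < r →
    chevE8.pairing r0 r = 0 ∨
      (chevE8.pairing r0 r = 1 ∧ e8add r0 (F3_wit r0 r) = some r.val) ∨
      (chevE8.pairing r0 r = -1 ∧ (e8add r0 r).isSome = true) := by
  decide +kernel

theorem F3_tab2_r207 : ∀ r0 : Fin 240, r0.val = 207 → ∀ r : Fin 240, 120 ≤ r0.val → r0 < r →
    chevE8.pairing r0 r = 0 ∨
      (chevE8.pairing r0 r = 1 ∧ e8add r0 (F3_wit r0 r) = some r.val) ∨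
      (chevE8.pairing r0 r = -1 ∧ (e8add r0 r).isSome = true) := by
  decide +kernel

theorem F3_tab2_r208 : ∀ r0 : Fin 240, r0.val = 208 → ∀ r : Fin 240, 120 ≤ r0.val → r0 < r →
    chevE8.pairing r0 r = 0 ∨
      (chevE8.pairing r0 r = 1 ∧ e8add r0 (F3_wit r0 r) = some r.val) ∨
      (chevE8.pairing r0 r = -1 ∧ (e8add r0 r).isSome = true) := by
  decide +kernel

theorem F3_tab2_r209 : ∀ r0 : Fin 240, r0.val = 209 → ∀ r : Fin 240, 120 ≤ r0.val → r0 < r →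
    chevE8.pairing r0 r = 0 ∨
      (chevE8.pairing r0 r = 1 ∧ e8add r0 (F3_wit r0 r) = some r.val) ∨
      (chevE8.pairing r0 r = -1 ∧ (e8add r0 r).isSome = true) := by
  decide +kernel

theorem F3_tab2_r210 : ∀ r0 : Fin 240, r0.val = 210 → ∀ r : Fin 240, 120 ≤ r0.val → r0 < r →
    chevE8.pairing r0 r = 0 ∨
      (chevE8.pairing r0 r = 1 ∧ e8add r0 (F3_wit r0 r) = some r.val) ∨
      (chevE8.pairing r0 r = -1 ∧ (e8add r0 r).isSome = true) := by
  decide +kernel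

theorem F3_tab2_r211 : ∀ r0 : Fin 240, r0.val = 211 → ∀ r : Fin 240, 120 ≤ r0.val → r0 < r →
    chevE8.pairing r0 r = 0 ∨
      (chevE8.pairing r0 r = 1 ∧ e8add r0 (F3_wit r0 r) = some r.val) ∨
      (chevE8.pairing r0 r = -1 ∧ (e8add r0 r).isSome = true) := by
  decide +kernel

theorem F3_tab2_r212 : ∀ r0 : Fin 240, r0.val = 212 → ∀ r : Fin 240, 120 ≤ r0.val → r0 < r →
    chevE8.pairing r0 r = 0 ∨
      (chevE8.pairing r0 r = 1 ∧ e8add r0 (F3_wit r0 r) = some r.val) ∨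
      (chevE8.pairing r0 r = -1 ∧ (e8add r0 r).isSome = true) := by
  decide +kernel

theorem F3_tab2_r213 : ∀ r0 : Fin 240, r0.val = 213 → ∀ r : Fin 240, 120 ≤ r0.val → r0 < r →
    chevE8.pairing r0 r = 0 ∨
      (chevE8.pairing r0 r = 1 ∧ e8add r0 (F3_wit r0 r) = some r.val) ∨
      (chevE8.pairing r0 r = -1 ∧ (e8add r0 r).isSome = true) := by
  decide +kernel

theorem F3_tab2_r214 : ∀ r0 : Fin 240, r0.val = 214 → ∀ r : Fin 240, 120 ≤ r0.val → r0 < r →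
    chevE8.pairing r0 r = 0 ∨
      (chevE8.pairing r0 r = 1 ∧ e8add r0 (F3_wit r0 r) = some r.val) ∨
      (chevE8.pairing r0 r = -1 ∧ (e8add r0 r).isSome = true) := by
  decide +kernel

theorem F3_tab2_r215 : ∀ r0 : Fin 240, r0.val = 215 → ∀ r : Fin 240, 120 ≤ r0.val → r0 < r →
    chevE8.pairing r0 r = 0 ∨
      (chevE8.pairing r0 r = 1 ∧ e8add r0 (F3_wit r0 r) = some r.val) ∨
      (chevE8.pairing r0 r = -1 ∧ (e8add r0 r).isSome = true) := by
  decide +kernel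

theorem F3_tab2_r216 : ∀ r0 : Fin 240, r0.val = 216 → ∀ r : Fin 240, 120 ≤ r0.val → r0 < r →
    chevE8.pairing r0 r = 0 ∨
      (chevE8.pairing r0 r = 1 ∧ e8add r0 (F3_wit r0 r) = some r.val) ∨
      (chevE8.pairing r0 r = -1 ∧ (e8add r0 r).isSome = true) := by
  decide +kernel

theorem F3_tab2_r217 : ∀ r0 : Fin 240, r0.val = 217 → ∀ r : Fin 240, 120 ≤ r0.val → r0 < r →
    chevE8.pairing r0 r = 0 ∨
      (chevE8.pairing r0 r = 1 ∧ e8add r0 (F3_wit r0 r) = some r.val) ∨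
      (chevE8.pairing r0 r = -1 ∧ (e8add r0 r).isSome = true) := by
  decide +kernel

theorem F3_tab2_r218 : ∀ r0 : Fin 240, r0.val = 218 → ∀ r : Fin 240, 120 ≤ r0.val → r0 < r →
    chevE8.pairing r0 r = 0 ∨
      (chevE8.pairing r0 r = 1 ∧ e8add r0 (F3_wit r0 r) = some r.val) ∨
      (chevE8.pairing r0 r = -1 ∧ (e8add r0 r).isSome = true) := by
  decide +kernel

theorem F3_tab2_r219 : ∀ r0 : Fin 240, r0.val = 219 → ∀ r : Fin 240, 120 ≤ r0.val → r0 < r →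
    chevE8.pairing r0 r = 0 ∨
      (chevE8.pairing r0 r = 1 ∧ e8add r0 (F3_wit r0 r) = some r.val) ∨
      (chevE8.pairing r0 r = -1 ∧ (e8add r0 r).isSome = true) := by
  decide +kernel

theorem F3_tab2_r220 : ∀ r0 : Fin 240, r0.val = 220 → ∀ r : Fin 240, 120 ≤ r0.val → r0 < r →
    chevE8.pairing r0 r = 0 ∨
      (chevE8.pairing r0 r = 1 ∧ e8add r0 (F3_wit r0 r) = some r.val) ∨
      (chevE8.pairing r0 r = -1 ∧ (e8add r0 r).isSome = true) := by
  decide +kernel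

theorem F3_tab2_r221 : ∀ r0 : Fin 240, r0.val = 221 → ∀ r : Fin 240, 120 ≤ r0.val → r0 < r →
    chevE8.pairing r0 r = 0 ∨
      (chevE8.pairing r0 r = 1 ∧ e8add r0 (F3_wit r0 r) = some r.val) ∨
      (chevE8.pairing r0 r = -1 ∧ (e8add r0 r).isSome = true) := by
  decide +kernel

theorem F3_tab2_r222 : ∀ r0 : Fin 240, r0.val = 222 → ∀ r : Fin 240, 120 ≤ r0.val → r0 < r →
    chevE8.pairing r0 r = 0 ∨
      (chevE8.pairing r0 r = 1 ∧ e8add r0 (F3_wit r0 r) = some r.val) ∨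
      (chevE8.pairing r0 r = -1 ∧ (e8add r0 r).isSome = true) := by
  decide +kernel

theorem F3_tab2_r223 : ∀ r0 : Fin 240, r0.val = 223 → ∀ r : Fin 240, 120 ≤ r0.val → r0 < r →
    chevE8.pairing r0 r = 0 ∨
      (chevE8.pairing r0 r = 1 ∧ e8add r0 (F3_wit r0 r) = some r.val) ∨
      (chevE8.pairing r0 r = -1 ∧ (e8add r0 r).isSome = true) := by
  decide +kernel

theorem F3_tab2_r224 : ∀ r0 : Fin 240, r0.val = 224 → ∀ r : Fin 240, 120 ≤ r0.val → r0 < r →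
    chevE8.pairing r0 r = 0 ∨
      (chevE8.pairing r0 r = 1 ∧ e8add r0 (F3_wit r0 r) = some r.val) ∨
      (chevE8.pairing r0 r = -1 ∧ (e8add r0 r).isSome = true) := by
  decide +kernel

theorem F3_tab2_r225 : ∀ r0 : Fin 240, r0.val = 225 → ∀ r : Fin 240, 120 ≤ r0.val → r0 < r →
    chevE8.pairing r0 r = 0 ∨
      (chevE8.pairing r0 r = 1 ∧ e8add r0 (F3_wit r0 r) = some r.val) ∨
      (chevE8.pairing r0 r = -1 ∧ (e8add r0 r).isSome = true) := by
  decide +kernel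

theorem F3_tab2_r226 : ∀ r0 : Fin 240, r0.val = 226 → ∀ r : Fin 240, 120 ≤ r0.val → r0 < r →
    chevE8.pairing r0 r = 0 ∨
      (chevE8.pairing r0 r = 1 ∧ e8add r0 (F3_wit r0 r) = some r.val) ∨
      (chevE8.pairing r0 r = -1 ∧ (e8add r0 r).isSome = true) := by
  decide +kernel

theorem F3_tab2_r227 : ∀ r0 : Fin 240, r0.val = 227 → ∀ r : Fin 240, 120 ≤ r0.val → r0 < r →
    chevE8.pairing r0 r = 0 ∨
      (chevE8.pairing r0 r = 1 ∧ e8add r0 (F3_wit r0 r) = some r.val) ∨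
      (chevE8.pairing r0 r = -1 ∧ (e8add r0 r).isSome = true) := by
  decide +kernel

theorem F3_tab2_r228 : ∀ r0 : Fin 240, r0.val = 228 → ∀ r : Fin 240, 120 ≤ r0.val → r0 < r →
    chevE8.pairing r0 r = 0 ∨
      (chevE8.pairing r0 r = 1 ∧ e8add r0 (F3_wit r0 r) = some r.val) ∨
      (chevE8.pairing r0 r = -1 ∧ (e8add r0 r).isSome = true) := by
  decide +kernel

theorem F3_tab2_r229 : ∀ r0 : Fin 240, r0.val = 229 → ∀ r : Fin 240, 120 ≤ r0.val → r0 < r →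
    chevE8.pairing r0 r = 0 ∨
      (chevE8.pairing r0 r = 1 ∧ e8add r0 (F3_wit r0 r) = some r.val) ∨
      (chevE8.pairing r0 r = -1 ∧ (e8add r0 r).isSome = true) := by
  decide +kernel

theorem F3_tab2_r230 : ∀ r0 : Fin 240, r0.val = 230 → ∀ r : Fin 240, 120 ≤ r0.val → r0 < r →
    chevE8.pairing r0 r = 0 ∨
      (chevE8.pairing r0 r = 1 ∧ e8add r0 (F3_wit r0 r) = some r.val) ∨
      (chevE8.pairing r0 r = -1 ∧ (e8add r0 r).isSome = true) := by
  decide +kernel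

theorem F3_tab2_r231 : ∀ r0 : Fin 240, r0.val = 231 → ∀ r : Fin 240, 120 ≤ r0.val → r0 < r →
    chevE8.pairing r0 r = 0 ∨
      (chevE8.pairing r0 r = 1 ∧ e8add r0 (F3_wit r0 r) = some r.val) ∨
      (chevE8.pairing r0 r = -1 ∧ (e8add r0 r).isSome = true) := by
  decide +kernel

theorem F3_tab2_r232 : ∀ r0 : Fin 240, r0.val = 232 → ∀ r : Fin 240, 120 ≤ r0.val → r0 < r →
    chevE8.pairing r0 r = 0 ∨
      (chevE8.pairing r0 r = 1 ∧ e8add r0 (F3_wit r0 r) = some r.val) ∨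
      (chevE8.pairing r0 r = -1 ∧ (e8add r0 r).isSome = true) := by
  decide +kernel

theorem F3_tab2_r233 : ∀ r0 : Fin 240, r0.val = 233 → ∀ r : Fin 240, 120 ≤ r0.val → r0 < r →
    chevE8.pairing r0 r = 0 ∨
      (chevE8.pairing r0 r = 1 ∧ e8add r0 (F3_wit r0 r) = some r.val) ∨
      (chevE8.pairing r0 r = -1 ∧ (e8add r0 r).isSome = true) := by
  decide +kernel

theorem F3_tab2_r234 : ∀ r0 : Fin 240, r0.val = 234 → ∀ r : Fin 240, 120 ≤ r0.val → r0 < r →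
    chevE8.pairing r0 r = 0 ∨
      (chevE8.pairing r0 r = 1 ∧ e8add r0 (F3_wit r0 r) = some r.val) ∨
      (chevE8.pairing r0 r = -1 ∧ (e8add r0 r).isSome = true) := by
  decide +kernel

theorem F3_tab2_r235 : ∀ r0 : Fin 240, r0.val = 235 → ∀ r : Fin 240, 120 ≤ r0.val → r0 < r →
    chevE8.pairing r0 r = 0 ∨
      (chevE8.pairing r0 r = 1 ∧ e8add r0 (F3_wit r0 r) = some r.val) ∨
      (chevE8.pairing r0 r = -1 ∧ (e8add r0 r).isSome = true) := by
  decide +kernel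

theorem F3_tab2_r236 : ∀ r0 : Fin 240, r0.val = 236 → ∀ r : Fin 240, 120 ≤ r0.val → r0 < r →
    chevE8.pairing r0 r = 0 ∨
      (chevE8.pairing r0 r = 1 ∧ e8add r0 (F3_wit r0 r) = some r.val) ∨
      (chevE8.pairing r0 r = -1 ∧ (e8add r0 r).isSome = true) := by
  decide +kernel

theorem F3_tab2_r237 : ∀ r0 : Fin 240, r0.val = 237 → ∀ r : Fin 240, 120 ≤ r0.val → r0 < r →
    chevE8.pairing r0 r = 0 ∨
      (chevE8.pairing r0 r = 1 ∧ e8add r0 (F3_wit r0 r) = some r.val) ∨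
      (chevE8.pairing r0 r = -1 ∧ (e8add r0 r).isSome = true) := by
  decide +kernel

theorem F3_tab2_r238 : ∀ r0 : Fin 240, r0.val = 238 → ∀ r : Fin 240, 120 ≤ r0.val → r0 < r →
    chevE8.pairing r0 r = 0 ∨
      (chevE8.pairing r0 r = 1 ∧ e8add r0 (F3_wit r0 r) = some r.val) ∨
      (chevE8.pairing r0 r = -1 ∧ (e8add r0 r).isSome = true) := by
  decide +kernel

theorem F3_tab2_r239 : ∀ r0 : Fin 240, r0.val = 239 → ∀ r : Fin 240, 120 ≤ r0.val → r0 < r →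
    chevE8.pairing r0 r = 0 ∨
      (chevE8.pairing r0 r = 1 ∧ e8add r0 (F3_wit r0 r) = some r.val) ∨
      (chevE8.pairing r0 r = -1 ∧ (e8add r0 r).isSome = true) := by
  decide +kernel

theorem F3_tab2_c4 : ∀ r0 : Fin 240, 195 ≤ r0.val → ∀ r : Fin 240, 120 ≤ r0.val → r0 < r →
    chevE8.pairing r0 r = 0 ∨
      (chevE8.pairing r0 r = 1 ∧ e8add r0 (F3_wit r0 r) = some r.val) ∨
      (chevE8.pairing r0 r = -1 ∧ (e8add r0 r).isSome = true) := by
  intro r0 hlo r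
  have h240 := r0.isLt
  have g195 : r0.val ≥ 195 := hlo
  rcases Nat.lt_or_ge r0.val 196 with g196 | g196
  · exact F3_tab2_r195 r0 (Nat.le_antisymm (Nat.le_of_lt_succ g196) g195) r
  rcases Nat.lt_or_ge r0.val 197 with g197 | g197
  · exact F3_tab2_r196 r0 (Nat.le_antisymm (Nat.le_of_lt_succ g197) g196) r
  rcases Nat.lt_or_ge r0.val 198 with g198 | g198
  · exact F3_tab2_r197 r0 (Nat.le_antisymm (Nat.le_of_lt_succ g198) g197) r
  rcases Nat.lt_or_ge r0.val 199 with g199 | g199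
  · exact F3_tab2_r198 r0 (Nat.le_antisymm (Nat.le_of_lt_succ g199) g198) r
  rcases Nat.lt_or_ge r0.val 200 with g200 | g200
  · exact F3_tab2_r199 r0 (Nat.le_antisymm (Nat.le_of_lt_succ g200) g199) r
  rcases Nat.lt_or_ge r0.val 201 with g201 | g201
  · exact F3_tab2_r200 r0 (Nat.le_antisymm (Nat.le_of_lt_succ g201) g200) r
  rcases Nat.lt_or_ge r0.val 202 with g202 | g202
  · exact F3_tab2_r201 r0 (Nat.le_antisymm (Nat.le_of_lt_succ g202) g201) r
  rcases Nat.lt_or_ge r0.val 203 with g203 | g203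
  · exact F3_tab2_r202 r0 (Nat.le_antisymm (Nat.le_of_lt_succ g203) g202) r
  rcases Nat.lt_or_ge r0.val 204 with g204 | g204
  · exact F3_tab2_r203 r0 (Nat.le_antisymm (Nat.le_of_lt_succ g204) g203) r
  rcases Nat.lt_or_ge r0.val 205 with g205 | g205
  · exact F3_tab2_r204 r0 (Nat.le_antisymm (Nat.le_of_lt_succ g205) g204) r
  rcases Nat.lt_or_ge r0.val 206 with g206 | g206
  · exact F3_tab2_r205 r0 (Nat.le_antisymm (Nat.le_of_lt_succ g206) g205) r
  rcases Nat.lt_or_ge r0.val 207 with g207 | g207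
  · exact F3_tab2_r206 r0 (Nat.le_antisymm (Nat.le_of_lt_succ g207) g206) r
  rcases Nat.lt_or_ge r0.val 208 with g208 | g208
  · exact F3_tab2_r207 r0 (Nat.le_antisymm (Nat.le_of_lt_succ g208) g207) r
  rcases Nat.lt_or_ge r0.val 209 with g209 | g209
  · exact F3_tab2_r208 r0 (Nat.le_antisymm (Nat.le_of_lt_succ g209) g208) r
  rcases Nat.lt_or_ge r0.val 210 with g210 | g210
  · exact F3_tab2_r209 r0 (Nat.le_antisymm (Nat.le_of_lt_succ g210) g209) r
  rcases Nat.lt_or_ge r0.val 211 with g211 | g211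
  · exact F3_tab2_r210 r0 (Nat.le_antisymm (Nat.le_of_lt_succ g211) g210) r
  rcases Nat.lt_or_ge r0.val 212 with g212 | g212
  · exact F3_tab2_r211 r0 (Nat.le_antisymm (Nat.le_of_lt_succ g212) g211) r
  rcases Nat.lt_or_ge r0.val 213 with g213 | g213
  · exact F3_tab2_r212 r0 (Nat.le_antisymm (Nat.le_of_lt_succ g213) g212) r
  rcases Nat.lt_or_ge r0.val 214 with g214 | g214
  · exact F3_tab2_r213 r0 (Nat.le_antisymm (Nat.le_of_lt_succ g214) g213) r
  rcases Nat.lt_or_ge r0.val 215 with g215 | g215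
  · exact F3_tab2_r214 r0 (Nat.le_antisymm (Nat.le_of_lt_succ g215) g214) r
  rcases Nat.lt_or_ge r0.val 216 with g216 | g216
  · exact F3_tab2_r215 r0 (Nat.le_antisymm (Nat.le_of_lt_succ g216) g215) r
  rcases Nat.lt_or_ge r0.val 217 with g217 | g217
  · exact F3_tab2_r216 r0 (Nat.le_antisymm (Nat.le_of_lt_succ g217) g216) r
  rcases Nat.lt_or_ge r0.val 218 with g218 | g218
  · exact F3_tab2_r217 r0 (Nat.le_antisymm (Nat.le_of_lt_succ g218) g217) r
  rcases Nat.lt_or_ge r0.val 219 with g219 | g219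
  · exact F3_tab2_r218 r0 (Nat.le_antisymm (Nat.le_of_lt_succ g219) g218) r
  rcases Nat.lt_or_ge r0.val 220 with g220 | g220
  · exact F3_tab2_r219 r0 (Nat.le_antisymm (Nat.le_of_lt_succ g220) g219) r
  rcases Nat.lt_or_ge r0.val 221 with g221 | g221
  · exact F3_tab2_r220 r0 (Nat.le_antisymm (Nat.le_of_lt_succ g221) g220) r
  rcases Nat.lt_or_ge r0.val 222 with g222 | g222
  · exact F3_tab2_r221 r0 (Nat.le_antisymm (Nat.le_of_lt_succ g222) g221) r
  rcases Nat.lt_or_ge r0.val 223 with g223 | g223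
  · exact F3_tab2_r222 r0 (Nat.le_antisymm (Nat.le_of_lt_succ g223) g222) r
  rcases Nat.lt_or_ge r0.val 224 with g224 | g224
  · exact F3_tab2_r223 r0 (Nat.le_antisymm (Nat.le_of_lt_succ g224) g223) r
  rcases Nat.lt_or_ge r0.val 225 with g225 | g225
  · exact F3_tab2_r224 r0 (Nat.le_antisymm (Nat.le_of_lt_succ g225) g224) r
  rcases Nat.lt_or_ge r0.val 226 with g226 | g226
  · exact F3_tab2_r225 r0 (Nat.le_antisymm (Nat.le_of_lt_succ g226) g225) r
  rcases Nat.lt_or_ge r0.val 227 with g227 | g227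
  · exact F3_tab2_r226 r0 (Nat.le_antisymm (Nat.le_of_lt_succ g227) g226) r
  rcases Nat.lt_or_ge r0.val 228 with g228 | g228
  · exact F3_tab2_r227 r0 (Nat.le_antisymm (Nat.le_of_lt_succ g228) g227) r
  rcases Nat.lt_or_ge r0.val 229 with g229 | g229
  · exact F3_tab2_r228 r0 (Nat.le_antisymm (Nat.le_of_lt_succ g229) g228) r
  rcases Nat.lt_or_ge r0.val 230 with g230 | g230
  · exact F3_tab2_r229 r0 (Nat.le_antisymm (Nat.le_of_lt_succ g230) g229) r
  rcases Nat.lt_or_ge r0.val 231 with g231 | g231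
  · exact F3_tab2_r230 r0 (Nat.le_antisymm (Nat.le_of_lt_succ g231) g230) r
  rcases Nat.lt_or_ge r0.val 232 with g232 | g232
  · exact F3_tab2_r231 r0 (Nat.le_antisymm (Nat.le_of_lt_succ g232) g231) r
  rcases Nat.lt_or_ge r0.val 233 with g233 | g233
  · exact F3_tab2_r232 r0 (Nat.le_antisymm (Nat.le_of_lt_succ g233) g232) r
  rcases Nat.lt_or_ge r0.val 234 with g234 | g234
  · exact F3_tab2_r233 r0 (Nat.le_antisymm (Nat.le_of_lt_succ g234) g233) r
  rcases Nat.lt_or_ge r0.val 235 with g235 | g235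
  · exact F3_tab2_r234 r0 (Nat.le_antisymm (Nat.le_of_lt_succ g235) g234) r
  rcases Nat.lt_or_ge r0.val 236 with g236 | g236
  · exact F3_tab2_r235 r0 (Nat.le_antisymm (Nat.le_of_lt_succ g236) g235) r
  rcases Nat.lt_or_ge r0.val 237 with g237 | g237
  · exact F3_tab2_r236 r0 (Nat.le_antisymm (Nat.le_of_lt_succ g237) g236) r
  rcases Nat.lt_or_ge r0.val 238 with g238 | g238
  · exact F3_tab2_r237 r0 (Nat.le_antisymm (Nat.le_of_lt_succ g238) g237) r
  rcases Nat.lt_or_ge r0.val 239 with g239 | g239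
  · exact F3_tab2_r238 r0 (Nat.le_antisymm (Nat.le_of_lt_succ g239) g238) r
  exact F3_tab2_r239 r0 (Nat.le_antisymm (Nat.le_of_lt_succ h240) g239) r

end Cfsg.Agent.Lib.Helper17.E8I
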