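import Cfsg.Agent.Lib.Helper17.E8I.DefsE

set_option autoImplicit false

namespace Cfsg.Agent.Lib.Helper17.E8I

open Cfsg.Lie Cfsg.Agent.Lib.Helper18 Cfsg.Agent.Lib.Helper17 Cfsg.Agent.Lib.Helper36
  Cfsg.Agent.Lib.Helper6 Matrix

theorem F3_tab1_lo : ∀ a : Fin 240, a.val < 120 → ∀ b : Fin 240, (e8add a b).all (fun k => decide
    ((∀ i : Fin 8, chevE8.cartan i k = chevE8.cartan i a + chevE8.cartan i b) ∧
      chevE8.pairing a b ≠ 0 ∧ chevE8.pairing a k = 1)) = true := by
  decide +kernel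

theorem F3_tab1_r120 : ∀ a : Fin 240, a.val = 120 → ∀ b : Fin 240, (e8add a b).all (fun k => decide
    ((∀ i : Fin 8, chevE8.cartan i k = chevE8.cartan i a + chevE8.cartan i b) ∧
      chevE8.pairing a b ≠ 0 ∧ chevE8.pairing a k = 1)) = true := by
  decide +kernel

theorem F3_tab1_r121 : ∀ a : Fin 240, a.val = 121 → ∀ b : Fin 240, (e8add a b).all (fun k => decide
    ((∀ i : Fin 8, chevE8.cartan i k = chevE8.cartan i a + chevE8.cartan i b) ∧
      chevE8.pairing a b ≠ 0 ∧ chevE8.pairing a k = 1)) = true := by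
  decide +kernel

theorem F3_tab1_r122 : ∀ a : Fin 240, a.val = 122 → ∀ b : Fin 240, (e8add a b).all (fun k => decide
    ((∀ i : Fin 8, chevE8.cartan i k = chevE8.cartan i a + chevE8.cartan i b) ∧
      chevE8.pairing a b ≠ 0 ∧ chevE8.pairing a k = 1)) = true := by
  decide +kernel

theorem F3_tab1_r123 : ∀ a : Fin 240, a.val = 123 → ∀ b : Fin 240, (e8add a b).all (fun k => decide
    ((∀ i : Fin 8, chevE8.cartan i k = chevE8.cartan i a + chevE8.cartan i b) ∧
      chevE8.pairing a b ≠ 0 ∧ chevE8.pairing a k = 1)) = true := by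
  decide +kernel

theorem F3_tab1_r124 : ∀ a : Fin 240, a.val = 124 → ∀ b : Fin 240, (e8add a b).all (fun k => decide
    ((∀ i : Fin 8, chevE8.cartan i k = chevE8.cartan i a + chevE8.cartan i b) ∧
      chevE8.pairing a b ≠ 0 ∧ chevE8.pairing a k = 1)) = true := by
  decide +kernel

theorem F3_tab1_r125 : ∀ a : Fin 240, a.val = 125 → ∀ b : Fin 240, (e8add a b).all (fun k => decide
    ((∀ i : Fin 8, chevE8.cartan i k = chevE8.cartan i a + chevE8.cartan i b) ∧
      chevE8.pairing a b ≠ 0 ∧ chevE8.pairing a k = 1)) = true := by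
  decide +kernel

theorem F3_tab1_r126 : ∀ a : Fin 240, a.val = 126 → ∀ b : Fin 240, (e8add a b).all (fun k => decide
    ((∀ i : Fin 8, chevE8.cartan i k = chevE8.cartan i a + chevE8.cartan i b) ∧
      chevE8.pairing a b ≠ 0 ∧ chevE8.pairing a k = 1)) = true := by
  decide +kernel

theorem F3_tab1_r127 : ∀ a : Fin 240, a.val = 127 → ∀ b : Fin 240, (e8add a b).all (fun k => decide
    ((∀ i : Fin 8, chevE8.cartan i k = chevE8.cartan i a + chevE8.cartan i b) ∧
      chevE8.pairing a b ≠ 0 ∧ chevE8.pairing a k = 1)) = true := by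
  decide +kernel

theorem F3_tab1_r128 : ∀ a : Fin 240, a.val = 128 → ∀ b : Fin 240, (e8add a b).all (fun k => decide
    ((∀ i : Fin 8, chevE8.cartan i k = chevE8.cartan i a + chevE8.cartan i b) ∧
      chevE8.pairing a b ≠ 0 ∧ chevE8.pairing a k = 1)) = true := by
  decide +kernel

theorem F3_tab1_r129 : ∀ a : Fin 240, a.val = 129 → ∀ b : Fin 240, (e8add a b).all (fun k => decide
    ((∀ i : Fin 8, chevE8.cartan i k = chevE8.cartan i a + chevE8.cartan i b) ∧
      chevE8.pairing a b ≠ 0 ∧ chevE8.pairing a k = 1)) = true := by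
  decide +kernel

theorem F3_tab1_r130 : ∀ a : Fin 240, a.val = 130 → ∀ b : Fin 240, (e8add a b).all (fun k => decide
    ((∀ i : Fin 8, chevE8.cartan i k = chevE8.cartan i a + chevE8.cartan i b) ∧
      chevE8.pairing a b ≠ 0 ∧ chevE8.pairing a k = 1)) = true := by
  decide +kernel

theorem F3_tab1_r131 : ∀ a : Fin 240, a.val = 131 → ∀ b : Fin 240, (e8add a b).all (fun k => decide
    ((∀ i : Fin 8, chevE8.cartan i k = chevE8.cartan i a + chevE8.cartan i b) ∧
      chevE8.pairing a b ≠ 0 ∧ chevE8.pairing a k = 1)) = true := by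
  decide +kernel

theorem F3_tab1_r132 : ∀ a : Fin 240, a.val = 132 → ∀ b : Fin 240, (e8add a b).all (fun k => decide
    ((∀ i : Fin 8, chevE8.cartan i k = chevE8.cartan i a + chevE8.cartan i b) ∧
      chevE8.pairing a b ≠ 0 ∧ chevE8.pairing a k = 1)) = true := by
  decide +kernel

theorem F3_tab1_r133 : ∀ a : Fin 240, a.val = 133 → ∀ b : Fin 240, (e8add a b).all (fun k => decide
    ((∀ i : Fin 8, chevE8.cartan i k = chevE8.cartan i a + chevE8.cartan i b) ∧
      chevE8.pairing a b ≠ 0 ∧ chevE8.pairing a k = 1)) = true := by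
  decide +kernel

theorem F3_tab1_r134 : ∀ a : Fin 240, a.val = 134 → ∀ b : Fin 240, (e8add a b).all (fun k => decide
    ((∀ i : Fin 8, chevE8.cartan i k = chevE8.cartan i a + chevE8.cartan i b) ∧
      chevE8.pairing a b ≠ 0 ∧ chevE8.pairing a k = 1)) = true := by
  decide +kernel

theorem F3_tab1_r135 : ∀ a : Fin 240, a.val = 135 → ∀ b : Fin 240, (e8add a b).all (fun k => decide
    ((∀ i : Fin 8, chevE8.cartan i k = chevE8.cartan i a + chevE8.cartan i b) ∧
      chevE8.pairing a b ≠ 0 ∧ chevE8.pairing a k = 1)) = true := by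
  decide +kernel

theorem F3_tab1_r136 : ∀ a : Fin 240, a.val = 136 → ∀ b : Fin 240, (e8add a b).all (fun k => decide
    ((∀ i : Fin 8, chevE8.cartan i k = chevE8.cartan i a + chevE8.cartan i b) ∧
      chevE8.pairing a b ≠ 0 ∧ chevE8.pairing a k = 1)) = true := by
  decide +kernel

theorem F3_tab1_r137 : ∀ a : Fin 240, a.val = 137 → ∀ b : Fin 240, (e8add a b).all (fun k => decide
    ((∀ i : Fin 8, chevE8.cartan i k = chevE8.cartan i a + chevE8.cartan i b) ∧
      chevE8.pairing a b ≠ 0 ∧ chevE8.pairing a k = 1)) = true := by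
  decide +kernel

theorem F3_tab1_r138 : ∀ a : Fin 240, a.val = 138 → ∀ b : Fin 240, (e8add a b).all (fun k => decide
    ((∀ i : Fin 8, chevE8.cartan i k = chevE8.cartan i a + chevE8.cartan i b) ∧
      chevE8.pairing a b ≠ 0 ∧ chevE8.pairing a k = 1)) = true := by
  decide +kernel

theorem F3_tab1_r139 : ∀ a : Fin 240, a.val = 139 → ∀ b : Fin 240, (e8add a b).all (fun k => decide
    ((∀ i : Fin 8, chevE8.cartan i k = chevE8.cartan i a + chevE8.cartan i b) ∧
      chevE8.pairing a b ≠ 0 ∧ chevE8.pairing a k = 1)) = true := by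
  decide +kernel

theorem F3_tab1_c0 : ∀ a : Fin 240, a.val < 140 → ∀ b : Fin 240, (e8add a b).all (fun k => decide
    ((∀ i : Fin 8, chevE8.cartan i k = chevE8.cartan i a + chevE8.cartan i b) ∧
      chevE8.pairing a b ≠ 0 ∧ chevE8.pairing a k = 1)) = true := by
  intro a hhi b
  have h240 := a.isLt
  rcases Nat.lt_or_ge a.val 120 with g120 | g120
  · exact F3_tab1_lo a g120 b
  rcases Nat.lt_or_ge a.val 121 with g121 | g121
  · exact F3_tab1_r120 a (Nat.le_antisymm (Nat.le_of_lt_succ g121) g120) b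
  rcases Nat.lt_or_ge a.val 122 with g122 | g122
  · exact F3_tab1_r121 a (Nat.le_antisymm (Nat.le_of_lt_succ g122) g121) b
  rcases Nat.lt_or_ge a.val 123 with g123 | g123
  · exact F3_tab1_r122 a (Nat.le_antisymm (Nat.le_of_lt_succ g123) g122) b
  rcases Nat.lt_or_ge a.val 124 with g124 | g124
  · exact F3_tab1_r123 a (Nat.le_antisymm (Nat.le_of_lt_succ g124) g123) b
  rcases Nat.lt_or_ge a.val 125 with g125 | g125
  · exact F3_tab1_r124 a (Nat.le_antisymm (Nat.le_of_lt_succ g125) g124) b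
  rcases Nat.lt_or_ge a.val 126 with g126 | g126
  · exact F3_tab1_r125 a (Nat.le_antisymm (Nat.le_of_lt_succ g126) g125) b
  rcases Nat.lt_or_ge a.val 127 with g127 | g127
  · exact F3_tab1_r126 a (Nat.le_antisymm (Nat.le_of_lt_succ g127) g126) b
  rcases Nat.lt_or_ge a.val 128 with g128 | g128
  · exact F3_tab1_r127 a (Nat.le_antisymm (Nat.le_of_lt_succ g128) g127) b
  rcases Nat.lt_or_ge a.val 129 with g129 | g129
  · exact F3_tab1_r128 a (Nat.le_antisymm (Nat.le_of_lt_succ g129) g128) b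
  rcases Nat.lt_or_ge a.val 130 with g130 | g130
  · exact F3_tab1_r129 a (Nat.le_antisymm (Nat.le_of_lt_succ g130) g129) b
  rcases Nat.lt_or_ge a.val 131 with g131 | g131
  · exact F3_tab1_r130 a (Nat.le_antisymm (Nat.le_of_lt_succ g131) g130) b
  rcases Nat.lt_or_ge a.val 132 with g132 | g132
  · exact F3_tab1_r131 a (Nat.le_antisymm (Nat.le_of_lt_succ g132) g131) b
  rcases Nat.lt_or_ge a.val 133 with g133 | g133
  · exact F3_tab1_r132 a (Nat.le_antisymm (Nat.le_of_lt_succ g133) g132) b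
  rcases Nat.lt_or_ge a.val 134 with g134 | g134
  · exact F3_tab1_r133 a (Nat.le_antisymm (Nat.le_of_lt_succ g134) g133) b
  rcases Nat.lt_or_ge a.val 135 with g135 | g135
  · exact F3_tab1_r134 a (Nat.le_antisymm (Nat.le_of_lt_succ g135) g134) b
  rcases Nat.lt_or_ge a.val 136 with g136 | g136
  · exact F3_tab1_r135 a (Nat.le_antisymm (Nat.le_of_lt_succ g136) g135) b
  rcases Nat.lt_or_ge a.val 137 with g137 | g137
  · exact F3_tab1_r136 a (Nat.le_antisymm (Nat.le_of_lt_succ g137) g136) b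
  rcases Nat.lt_or_ge a.val 138 with g138 | g138
  · exact F3_tab1_r137 a (Nat.le_antisymm (Nat.le_of_lt_succ g138) g137) b
  rcases Nat.lt_or_ge a.val 139 with g139 | g139
  · exact F3_tab1_r138 a (Nat.le_antisymm (Nat.le_of_lt_succ g139) g138) b
  exact F3_tab1_r139 a (Nat.le_antisymm (Nat.le_of_lt_succ hhi) g139) b

end Cfsg.Agent.Lib.Helper17.E8I
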