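import Cfsg.Agent.Lib.Helper50.E8I.C2
import Cfsg.Agent.Lib.Helper15.E8I.F6
import Cfsg.Agent.Lib.Helper17.E8I.M3of

set_option autoImplicit false

/-! Piece F7 of the farm E8I (helper17) for S2176, without a table: an orthogonal pair of roots is moved to
`(239, 226)` by the Weyl group. -/

namespace Cfsg.Agent.Lib.Helper17.E8I

open Cfsg.Lie Cfsg.Agent.Lib.Helper18 Cfsg.Agent.Lib.Helper17 Cfsg.Agent.Lib.Helper36
  Cfsg.Agent.Lib.Helper6 Matrix

variable {F : Type*} [Field F] (hB : Base chevE8 F)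

theorem F7w_comm [CharP F 2] (r s : ℕ) (hr : r < 240) (hs : s < 240) (h : e8orth r s) :
    hB.xg r (1 : F) * hB.xg s 1 = hB.xg s 1 * hB.xg r 1 := by
  have hO : OL [r, s] := by
    refine ⟨by simpa using h, ?_⟩
    intro o ho
    simp only [List.mem_cons, List.not_mem_nil, or_false] at ho
    rcases ho with rfl | rfl <;> assumption
  obtain ⟨L, hL, hc⟩ := Cfsg.Agent.Lib.Helper50.E8I.cascade3 [r, s] hO (by simp)
  have hrs : wAct chevE8 L r = 239 ∧ wAct chevE8 L s = 226 := by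
    rcases hc with h1 | h1 | ⟨O', h1⟩
    · simp at h1
    · simpa using h1
    · simp at h1
  have m1 := (Cfsg.Agent.Lib.Helper15.E8I.weyl_move hB L hL [r] (by simpa using hr)).2
  have m2 := (Cfsg.Agent.Lib.Helper15.E8I.weyl_move hB L hL [s] (by simpa using hs)).2
  simp only [List.map_cons, List.map_nil, CG.lp_cons, CG.lp_nil, mul_one, hrs.1, hrs.2] at m1 m2
  have c : hB.xg 239 (1 : F) * hB.xg 226 1 = hB.xg 226 1 * hB.xg 239 1 :=
    M3_comm hB (by decide +kernel) (by decide +kernel) (by decide +kernel) 1 1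
  rw [← m1, ← m2] at c
  generalize hB.nW L = n at c
  have c' : n * (hB.xg r 1 * hB.xg s 1) * n⁻¹ = n * (hB.xg s 1 * hB.xg r 1) * n⁻¹ := by
    calc n * (hB.xg r 1 * hB.xg s 1) * n⁻¹ = n * hB.xg r 1 * n⁻¹ * (n * hB.xg s 1 * n⁻¹) := by group
      _ = n * hB.xg s 1 * n⁻¹ * (n * hB.xg r 1 * n⁻¹) := c
      _ = _ := by group
  exact mul_left_cancel (mul_right_cancel c')

/-- [F7] orthogonal root elements commute -/
theorem lp_perm_w [CharP F 2] (O O' : List ℕ) (hO : O.Pairwise e8orth) (hb : ∀ o ∈ O, o < 240)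
    (hp : O.Perm O') : CG.lp hB O (fun _ => (1 : F)) = CG.lp hB O' (fun _ => 1) := by
  unfold CG.lp
  apply List.Perm.prod_eq' (hp.map _)
  rw [List.pairwise_map]
  exact hO.imp_of_mem fun {a b} ha hb' hab => F7w_comm hB a b (hb a ha) (hb b hb') hab

end Cfsg.Agent.Lib.Helper17.E8I
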