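import Cfsg.Agent.Lib.Helper88.E8I.F1
import Cfsg.Agent.Lib.Helper71.E8I.F2
import Cfsg.Agent.Lib.Helper17.E8I.F3n
import Cfsg.Agent.Lib.Helper88.E8I.F4
import Cfsg.Agent.Lib.Helper15.E8I.F5
import Cfsg.Agent.Lib.Helper15.E8I.F6
import Cfsg.Agent.Lib.Helper17.E8I.F7w
import Cfsg.Agent.Lib.Helper88.E8I.F10
import Cfsg.Agent.Lib.Helper88.E8I.F11
import Cfsg.Agent.Lib.Helper37.E8I.M1
import Cfsg.Agent.Lib.Helper37.E8I.M2
import Cfsg.Agent.Lib.Helper17.E8I.M3of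
import Cfsg.Agent.Lib.Helper50.E8I.C1
import Cfsg.Agent.Lib.Helper50.E8I.C2
import Cfsg.Agent.Lib.Helper50.E8I.C3
import Cfsg.Agent.Lib.Helper23.E8I.C4
import Cfsg.Agent.Lib.Helper17.E8I.C5

set_option autoImplicit false

/-! # involutions of `E₈(2^a)`: assembly (helper17) -/

namespace Cfsg.Agent.Lib.Helper17.E8I

open Cfsg.Lie Cfsg.Agent.Lib.Helper18 Cfsg.Agent.Lib.Helper17 Cfsg.Agent.Lib.Helper36
  Cfsg.Agent.Lib.Helper6 Matrix Cfsg.Agent.Lib.Helper17.E6I Cfsg.Agent.Lib.Helper88.E8I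
  Cfsg.Agent.Lib.Helper71.E8I Cfsg.Agent.Lib.Helper15.E8I
  Cfsg.Agent.Lib.Helper37.E8I Cfsg.Agent.Lib.Helper50.E8I Cfsg.Agent.Lib.Helper23.E8I

variable {F : Type*} [Field F] (hB : Base chevE8 F)

/-- the instance -/
def e8RS [CharP F 2] : RS (GL chevE8.Idx F) F where
  lo := 120
  n := 240
  x := hB.xg
  add := e8add
  orth := e8orth
  x_add r t u := hB.xg_add r t u
  comm_none r s h1 h2 h3 h4 h t u := e8_comm_none hB r s h1 h2 h3 h4 h t u
  conj_some r s k h1 h2 h3 h4 h t u := e8_conj_some hB r s k h1 h2 h3 h4 h t u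
  add_lt := e8_add_lt
  add_symm := e8_add_symm
  add_mono := e8_add_mono
  inj c c' h r h0 h1 := e8_inj hB c c' h r h0 h1
  tri := e8_tri
  orth_none := e8_orth_none
  orth_add := e8_orth_add
  orth_sub := e8_orth_sub
  good_add := e8_good_add

theorem Good8.of_eq {g g' h : GL chevE8.Idx F} (hh : h ∈ chevE8.group F) (e : h * g * h⁻¹ = g')
    (H : Good8 hB g') : Good8 hB g := by
  obtain ⟨k, hk, e'⟩ := H
  refine ⟨k * h, mul_mem hk hh, ?_⟩
  rw [CG.conj_mul', e]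
  exact e'

theorem e8add_bd {a d k : ℕ} (h : e8add a d = some k) : 120 ≤ a ∧ a < 240 ∧ 120 ≤ d ∧ d < 240 := by
  unfold e8add at h
  by_contra hcon
  rw [if_neg hcon] at h
  exact absurd h (by simp)

theorem closed_all8 [CharP F 2] : Closed (e8RS hB) (fun r => 120 ≤ r ∧ r < 240) where
  bd r hr := hr
  add a b k ha hb hk := by
    have := e8_add_lt a b k hk
    exact ⟨by omega, this.2.2⟩
  sub a d k ha hk hd := by
    have := e8add_bd hd
    exact ⟨this.2.2.1, this.2.2.2⟩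

theorem U_le_V8 [CharP F 2] : chevE8.posUnipotent F ≤ V (e8RS hB) (fun r => 120 ≤ r ∧ r < 240) 120 := by
  rw [hB.posUnipotent_eq, Subgroup.closure_le]
  rintro _ ⟨r, t, hr, rfl⟩
  apply Subgroup.subset_closure
  have h1 : r < 240 := hr.1
  have h2 : 120 ≤ r := by
    have key : ∀ r : Fin 240, chevE8.IsPosRoot r → 120 ≤ r.val := by decide +kernel
    exact key ⟨r, h1⟩ hr
  exact ⟨r, t, ⟨h2, h1⟩, h2, rfl⟩

theorem V_le_group8 [CharP F 2] (k : ℕ) :
    V (e8RS hB) (fun r => 120 ≤ r ∧ r < 240) k ≤ chevE8.group F := by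
  rw [V, Subgroup.closure_le]
  rintro _ ⟨r, t, hr, -, rfl⟩
  exact hB.xg_mem_group hr.2 t

theorem move8 [CharP F 2] (L : List ℕ) (hL : ∀ i ∈ L, i < 8) {O : List ℕ} (hO : OL O)
    (H : Good8 hB (CG.lp hB (O.map (wAct chevE8 L)) (fun _ => 1))) : Good8 hB (CG.lp hB O (fun _ => 1)) := by
  obtain ⟨hm, he⟩ := weyl_move hB L hL O hO.2
  exact Good8.of_eq hB hm he H

theorem perm8 [CharP F 2] {O O' : List ℕ} (hp : O.Perm O') (hO : OL O)
    (H : Good8 hB (CG.lp hB O' (fun _ => 1))) : Good8 hB (CG.lp hB O (fun _ => 1)) := by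
  rw [lp_perm_w hB O O' hO.1 hO.2 hp]
  exact H

theorem OL.tail {a : ℕ} {O : List ℕ} (h : OL (a :: O)) : OL O :=
  ⟨(List.pairwise_cons.mp h.1).2, fun o ho => h.2 o (List.mem_cons_of_mem _ ho)⟩

def wQ : List ℕ := [0,3,1,4,3,2,5,4,3,1,6,5,4,3,2,0,7,6,5,4,3,1,2,3,4,5,6,7,3,2,0,4,3,2,5,4,3,1,6,5,4,3,2,0,3,1,4,3,5,4,6,5]

/-- a list beginning with a D4-quadruple -/
theorem lemD [CharP F 2] (n : ℕ)
    (IH : ∀ O : List ℕ, OL O → O ≠ [] → O.length < n → Good8 hB (CG.lp hB O (fun _ => 1)))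
    (a b c d : ℕ) (rest : List ℕ) (hO : OL (a :: b :: c :: d :: rest))
    (hn : (a :: b :: c :: d :: rest).length = n) (h4 : isD4 a b c d) :
    Good8 hB (CG.lp hB (a :: b :: c :: d :: rest) (fun _ => 1)) := by
  obtain ⟨L1, hL1, hc⟩ := cascade3 _ hO (by simp)
  refine move8 hB L1 hL1 hO ?_
  have hO1 := OL_map L1 hL1 hO
  have h41 := isD4_map L1 hL1 (hO.2 a (by simp)) (hO.2 b (by simp)) (hO.2 c (by simp)) (hO.2 d (by simp)) h4
  rcases hc with hc | hc | ⟨O', hc⟩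
  · simp at hc
  · simp at hc
  simp only [List.map_cons, List.cons.injEq] at hc
  obtain ⟨ea, eb, ec, rfl⟩ := hc
  simp only [List.map_cons] at hO1 ⊢
  rw [ea, eb, ec] at hO1 h41 ⊢
  set d1 := wAct chevE8 L1 d with hd1
  set rest1 := rest.map (wAct chevE8 L1) with hrest1
  have p1 := List.pairwise_cons.mp hO1.1
  have p2 := List.pairwise_cons.mp p1.2
  have p3 := List.pairwise_cons.mp p2.2
  rcases fourth d1 (hO1.2 d1 (by simp)) (p1.1 d1 (by simp)) (p2.1 d1 (by simp)) (p3.1 d1 (by simp)) with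
    ⟨-, L2, hL2, f1, f2, f3, f4⟩ | ⟨hno, -⟩
  swap
  · exact absurd h41 hno
  refine move8 hB L2 hL2 hO1 ?_
  have hO2 := OL_map L2 hL2 hO1
  simp only [List.map_cons] at hO2 ⊢
  rw [f1, f2, f3, f4] at hO2 ⊢
  have hQ : ∀ i ∈ wQ, i < 8 := by decide
  refine move8 hB wQ hQ hO2 ?_
  have hO3 := OL_map wQ hQ hO2
  simp only [List.map_cons] at hO3 ⊢
  have q1 : wAct chevE8 wQ 239 = 135 := by decide +kernel
  have q2 : wAct chevE8 wQ 226 = 152 := by decide +kernel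
  have q3 : wAct chevE8 wQ 159 = 126 := by decide +kernel
  have q4 : wAct chevE8 wQ 121 = 141 := by decide +kernel
  rw [q1, q2, q3, q4] at hO3 ⊢
  obtain ⟨g, hg, e⟩ := fusion8 hB _ hO3
  refine Good8.of_eq hB hg e ?_
  apply IH
  · have hp : (135 :: 152 :: 126 :: 141 :: (rest1.map (wAct chevE8 L2)).map (wAct chevE8 wQ)).Perm
        (152 :: 135 :: 141 :: 126 :: (rest1.map (wAct chevE8 L2)).map (wAct chevE8 wQ)) :=
      (List.Perm.swap _ _ _).trans (((List.Perm.swap _ _ _).cons _).cons _)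
    exact (OL_perm hp hO3).tail
  · simp
  · simp only [List.length_cons, List.length_map, hrest1] at hn ⊢
    omega

def w2 : List ℕ := [1, 3, 4, 5, 6, 7]
def w3 : List ℕ := [5, 4, 3, 1, 2, 3, 4, 5, 6, 7, 4, 3, 2, 0]
def w4 : List ℕ := [7, 6, 5, 4, 3, 1, 2, 3, 4, 5, 6, 7, 6, 5, 4, 3, 2, 0, 4, 5]

theorem OL.sub {O O' : List ℕ} (h : OL O) (hs : O'.Sublist O) : OL O' :=
  ⟨h.1.sublist hs, fun o ho => h.2 o (hs.subset ho)⟩

/-- orthogonal products with coefficients 1 are good -/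
theorem good_orth8 [CharP F 2] : ∀ (n : ℕ) (O : List ℕ), OL O → O ≠ [] → O.length = n →
    Good8 hB (CG.lp hB O (fun _ => 1)) := by
  intro n
  induction n using Nat.strong_induction_on with
  | _ n ih =>
  intro O hO hne hn
  have IH : ∀ O : List ℕ, OL O → O ≠ [] → O.length < n → Good8 hB (CG.lp hB O (fun _ => 1)) :=
    fun O h1 h2 h3 => ih _ h3 O h1 h2 rfl
  obtain ⟨L1, hL1, hc⟩ := cascade3 _ hO hne
  refine move8 hB L1 hL1 hO ?_
  have hO1 := OL_map L1 hL1 hO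
  have hlen : (O.map (wAct chevE8 L1)).length = n := by rw [List.length_map, hn]
  rcases hc with hc | hc | ⟨O', hc⟩
  · rw [hc]
    exact ⟨1, one_mem _, Or.inl (by simp [CG.lp, z1])⟩
  · rw [hc] at hO1 ⊢
    refine move8 hB w2 (by decide) hO1 ?_
    have hp : ([239, 226].map (wAct chevE8 w2)).Perm [232, 233] := by decide +kernel
    refine perm8 hB hp (OL_map w2 (by decide) hO1) ?_
    exact ⟨1, one_mem _, Or.inr (Or.inl (by simp [CG.lp, z2]))⟩
  rw [hc] at hO1 hlen ⊢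
  match O', hO1, hlen with
  | [], hO1, _ =>
    refine move8 hB w3 (by decide) hO1 ?_
    have hp : ([239, 226, 159].map (wAct chevE8 w3)).Perm [228, 222, 218] := by decide +kernel
    refine perm8 hB hp (OL_map w3 (by decide) hO1) ?_
    exact ⟨1, one_mem _, Or.inr (Or.inr (Or.inl (by simp [CG.lp, z3, mul_assoc])))⟩
  | [o4], hO1, hlen =>
    have p1 := List.pairwise_cons.mp hO1.1
    have p2 := List.pairwise_cons.mp p1.2
    have p3 := List.pairwise_cons.mp p2.2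
    rcases fourth o4 (hO1.2 o4 (by simp)) (p1.1 o4 (by simp)) (p2.1 o4 (by simp)) (p3.1 o4 (by simp)) with
      ⟨h4, -⟩ | ⟨-, L2, hL2, f1, f2, f3, f4⟩
    · exact lemD hB n IH _ _ _ _ _ hO1 hlen h4
    · refine move8 hB L2 hL2 hO1 ?_
      have hO2 := OL_map L2 hL2 hO1
      simp only [List.map_cons, List.map_nil] at hO2 ⊢
      rw [f1, f2, f3, f4] at hO2 ⊢
      refine move8 hB w4 (by decide) hO2 ?_
      have hp : ([239, 226, 159, 152].map (wAct chevE8 w4)).Perm [226, 220, 213, 216] := by decide +kernel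
      refine perm8 hB hp (OL_map w4 (by decide) hO2) ?_
      exact ⟨1, one_mem _, Or.inr (Or.inr (Or.inr (by simp [CG.lp, z4, mul_assoc])))⟩
  | o4 :: o5 :: T, hO1, hlen =>
    have h5 : OL [239, 226, 159, o4, o5] := by
      apply hO1.sub
      simp
    rcases five o4 o5 h5 with h | h | h | h | h
    · have hp : (239 :: 226 :: 159 :: o4 :: o5 :: T).Perm (226 :: 159 :: o4 :: o5 :: 239 :: T) :=
        (List.perm_middle (l₁ := [226, 159, o4, o5]) (a := 239) (l₂ := T)).symm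
      refine perm8 hB hp hO1 ?_
      exact lemD hB n IH _ _ _ _ _ (OL_perm hp hO1) (by rw [← hlen]; simp) h
    · have hp : (239 :: 226 :: 159 :: o4 :: o5 :: T).Perm (239 :: 159 :: o4 :: o5 :: 226 :: T) :=
        ((List.perm_middle (l₁ := [159, o4, o5]) (a := 226) (l₂ := T)).symm).cons 239
      refine perm8 hB hp hO1 ?_
      exact lemD hB n IH _ _ _ _ _ (OL_perm hp hO1) (by rw [← hlen]; simp) h
    · have hp : (239 :: 226 :: 159 :: o4 :: o5 :: T).Perm (239 :: 226 :: o4 :: o5 :: 159 :: T) :=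
        (((List.perm_middle (l₁ := [o4, o5]) (a := 159) (l₂ := T)).symm).cons 226).cons 239
      refine perm8 hB hp hO1 ?_
      exact lemD hB n IH _ _ _ _ _ (OL_perm hp hO1) (by rw [← hlen]; simp) h
    · have hp : (239 :: 226 :: 159 :: o4 :: o5 :: T).Perm (239 :: 226 :: 159 :: o5 :: o4 :: T) :=
        (((List.Perm.swap _ _ _).cons 159).cons 226).cons 239
      refine perm8 hB hp hO1 ?_
      exact lemD hB n IH _ _ _ _ _ (OL_perm hp hO1) (by rw [← hlen]; simp) h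
    · exact lemD hB n IH _ _ _ _ _ hO1 hlen h

/-- every involution of `U` is good -/
theorem good_of_U8 [Finite F] [CharP F 2] {u : GL chevE8.Idx F} (hu : u ∈ chevE8.posUnipotent F)
    (h1 : u * u = 1) (hne : u ≠ 1) : Good8 hB u := by
  obtain ⟨g, hg, O, c, hO1, hO2, e⟩ := main (e8RS hB) 120 120 (by simp [e8RS]) _ (closed_all8 hB) u
    (U_le_V8 hB hu) h1
  have e' : g * u * g⁻¹ = CG.lp hB O c := e
  refine Good8.of_eq hB (V_le_group8 hB _ hg) e' ?_
  have hb : ∀ o ∈ O, o < 240 := fun o ho => (hO1 o ho).1.2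
  obtain ⟨h, hh, e2⟩ := torus hB O hO2 hb c (fun o ho => (hO1 o ho).2.2)
  refine Good8.of_eq hB hh e2 ?_
  apply good_orth8 hB _ O ⟨hO2, hb⟩ _ rfl
  rintro rfl
  apply hne
  have : g * u * g⁻¹ = 1 := by rw [e']; simp
  exact CG.conj_eq_one' this

theorem z_props' [CharP F 2] : (z1 hB ∈ chevE8.group F ∧ orderOf (z1 hB) = 2) ∧
    (z2 hB ∈ chevE8.group F ∧ orderOf (z2 hB) = 2) ∧ (z3 hB ∈ chevE8.group F ∧ orderOf (z3 hB) = 2) ∧
    (z4 hB ∈ chevE8.group F ∧ orderOf (z4 hB) = 2) := z_props hB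

theorem conj_into_U8 [Fintype F] [CharP F 2] {g : GL chevE8.Idx F} (hg : g ∈ chevE8.group F)
    (ho : orderOf g = 2) : ∃ h ∈ chevE8.group F, h * g * h⁻¹ ∈ chevE8.posUnipotent F :=
  conj_into_U hg ho

theorem not_conj8' [CharP F 2] {h : GL chevE8.Idx F} (hh : h ∈ chevE8.group F) :
    h * z1 hB * h⁻¹ ≠ z2 hB ∧ h * z1 hB * h⁻¹ ≠ z3 hB ∧ h * z1 hB * h⁻¹ ≠ z4 hB ∧
    h * z2 hB * h⁻¹ ≠ z3 hB ∧ h * z2 hB * h⁻¹ ≠ z4 hB ∧ h * z3 hB * h⁻¹ ≠ z4 hB :=
  not_conj8_of hB (fun hu c => conj_S17 hB hu c) (fun hn _ _ h => supp_S17 hB hn h) hh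

end Cfsg.Agent.Lib.Helper17.E8I
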